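import Cfsg.Agent.H867.MinIdx_m3
import Cfsg.Agent.H168.GLFour
import Cfsg.Agent.Lib.ElemAbGL
import Cfsg.Agent.StdL2.G23Aut
import Cfsg.Agent.Held.HeldCardLe
import Cfsg.Agent.H151.GLClass
import Mathlib.GroupTheory.SpecificGroups.Cyclic
import Cfsg.Agent.H941.PiSimple
import Cfsg.Agent.H168.Rad
import Cfsg.Agent.S0703
import Cfsg.Agent.S0704
import Cfsg.Agent.S0723
import Cfsg.Agent.H540.ClassNum
import Cfsg.Agent.H539.PartCount
import Cfsg.Agent.SmallSimple.Embed
import Cfsg.Agent.S2119
import Cfsg.Agent.S2602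
import Cfsg.Agent.S0254
import Cfsg.Agent.S2480
import Mathlib.GroupTheory.SpecificGroups.Alternating.Simple
import Cfsg.Prelude.Def_Classification2
import Mathlib
import Cfsg.Agent.H934.HeisE6_m3
import Cfsg.Agent.H934.HeisE7
import Cfsg.Agent.H934.HeisE8
import Cfsg.Agent.S1063
import Cfsg.Agent.S1064
import Cfsg.Agent.S1065
import Cfsg.Agent.S2123
import Cfsg.Agent.S2124
import Cfsg.Agent.S2125
import Cfsg.Agent.S1062
import Cfsg.Agent.S2122
import Cfsg.Agent.S0713
import Cfsg.Agent.SmallSimple.IndexJordan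
import Cfsg.Agent.H934.IdxSz_m3
import Cfsg.Agent.H934.IdxTwF4
import Cfsg.Agent.S1068
import Cfsg.Agent.S1069
import Cfsg.Agent.S1163
import Cfsg.Agent.S2126
import Cfsg.Agent.S2127
import Cfsg.Agent.S2128
import Cfsg.Agent.H934.Heis
import Cfsg.Agent.S1059
import Cfsg.Agent.S2121
import Cfsg.Agent.FastGrp
import Cfsg.Agent.Prune
set_option linter.all false

section
prune_inst 0x7ff2fefd6fb8bddeffff7e7ffef1dffc39c1dfffefdffb4bffe0ebff9fdf83063be5fba71de050ff1ed6e29c38b87813fb7eeeffe86fdc7ffffdfff45ffbee1ff7febd8971d79d34cfbe0fff63f07f8e7f3fffffffffffffffffffffffffffbeffffffffffff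

-- part: H539/TabAsm
section
prune_inst 0x400020014000010000000001d10002000206900000000000408008000000200000000000000000400000000000000000000000000022000000240004060009803004000000000000000000000000000000041000000000000
set_option linter.all false
open scoped Cfsg.Agent.FastGrp

-- part: H539/CaseATwo
section
set_option autoImplicit false
set_option linter.unusedSectionVars false

/-!
# Class numbers of primitive groups with a regular elementary abelian normal subgroup

`of_abelian`: all degrees `n ≥ 5`.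
-/

open MulAction

namespace Cfsg.Agent.H539.CaseA

open Cfsg.Agent.H540.ClassNum Cfsg.Agent.H539.BlockRed Cfsg.Agent.H539.PrimRed

/-- proper subgroups of `GL(3,2)` have index at least `6` -/
theorem six_le_index (K : Subgroup (Matrix.GeneralLinearGroup (Fin 3) (ZMod 2))) (hK : K ≠ ⊤) :
    6 ≤ K.index := by
  classical
  have hs : IsSimpleGroup (Matrix.GeneralLinearGroup (Fin 3) (ZMod 2)) := StdL2.G23Aut.simple_GL
  by_contra hcon
  push Not at hcon
  have hcore : K.normalCore = ⊥ := by
    rcases IsSimpleGroup.eq_bot_or_eq_top_of_normal K.normalCore inferInstance with h | h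
    · exact h
    · exfalso
      apply hK
      rw [eq_top_iff, ← h]
      exact K.normalCore_le
  have hinj : Function.Injective (MulAction.toPermHom (Matrix.GeneralLinearGroup (Fin 3) (ZMod 2))
      (Matrix.GeneralLinearGroup (Fin 3) (ZMod 2) ⧸ K)) := by
    rw [← MonoidHom.ker_eq_bot_iff, ← Subgroup.normalCore_eq_ker]
    exact hcore
  have h1 := Nat.card_le_card_of_injective _ hinj
  have hfin : Fintype (Matrix.GeneralLinearGroup (Fin 3) (ZMod 2) ⧸ K) := Fintype.ofFinite _
  rw [Held.HeldCardLe.card_GL3, Nat.card_eq_fintype_card, Fintype.card_perm,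
    ← Nat.card_eq_fintype_card, ← Subgroup.index_eq_card] at h1
  have h2 : K.index.factorial ≤ Nat.factorial 5 := Nat.factorial_le (by omega)
  have h3 : Nat.factorial 5 = 120 := rfl
  omega

section

variable {G α : Type*} [Group G] [Finite G] [MulAction G α] [Finite α] [FaithfulSMul G α]
  [IsPreprimitive G α] (R : Subgroup G) [R.Normal] [IsPretransitive R α] (a : α)

/-- degree `5` -/
theorem of_five (hreg : stabilizer R a = ⊥) (h5 : Nat.card α = 5) :
    Nat.card (ConjClasses G) ≤ 2 ^ (Nat.card α - 1) := by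
  apply of_card_le a
  have hc := card_regular R a hreg
  have h5' : Fact (Nat.Prime 5) := ⟨by norm_num⟩
  have hcyc : IsCyclic R := isCyclic_of_prime_card (p := 5) (by rw [hc, h5])
  have h1 := Nat.card_le_card_of_injective _ (conjHom_injective R a)
  rw [IsCyclic.card_mulAut, hc, h5] at h1
  have h2 : Nat.totient 5 = 4 := by decide
  rw [card_eq (G := G) a, h5]
  omega

/-- degree `8` -/
theorem of_eight (hreg : stabilizer R a = ⊥) (hcomm : ∀ x y : R, x * y = y * x)
    (h2 : ∀ x : R, x ^ 2 = 1) (h8 : Nat.card α = 8) :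
    Nat.card (ConjClasses G) ≤ 2 ^ (Nat.card α - 1) := by
  have hc := card_regular R a hreg
  let : CommGroup R := { (inferInstance : Group R) with mul_comm := hcomm }
  have hp2 : Fact (Nat.Prime 2) := ⟨Nat.prime_two⟩
  obtain ⟨e⟩ := Lib.ElemAbGL.mulAut_equiv_GL (V := R) 2 3 h2 (by rw [hc, h8]; norm_num)
  let f : stabilizer G a →* Matrix.GeneralLinearGroup (Fin 3) (ZMod 2) :=
    e.toMonoidHom.comp (conjHom R a)
  have hf : Function.Injective f := e.injective.comp (conjHom_injective R a)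
  by_cases hr : f.range = ⊤
  · have h1 : Nat.card (ConjClasses (stabilizer G a)) ≤ 8 := by
      have e1 : stabilizer G a ≃* Matrix.GeneralLinearGroup (Fin 3) (ZMod 2) :=
        ((MonoidHom.ofInjective hf).trans (MulEquiv.subgroupCongr hr)).trans Subgroup.topEquiv
      rw [card_conjClasses_congr e1]
      refine (H151.GLC.card_classes_le).trans ((H151.Cnt.K_le _ ?_ 3 3).trans ?_)
      · rw [ZMod.card]; norm_num
      · rw [ZMod.card]; norm_num
    have h3 := le_mul (G := G) a
    rw [h8] at h3 ⊢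
    calc Nat.card (ConjClasses G) ≤ _ := h3
      _ ≤ 8 * 8 := Nat.mul_le_mul_left _ h1
      _ ≤ _ := by norm_num
  · apply of_card_le a
    have h1 := six_le_index f.range hr
    have h3 := f.range.card_mul_index
    rw [Held.HeldCardLe.card_GL3] at h3
    have h4 : Nat.card (stabilizer G a) = Nat.card f.range :=
      Nat.card_congr (MonoidHom.ofInjective hf).toEquiv
    have h5 : Nat.card f.range ≤ 28 := by
      by_contra hcon
      push Not at hcon
      have : 29 * 6 ≤ Nat.card f.range * f.range.index := Nat.mul_le_mul hcon h1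
      omega
    rw [card_eq (G := G) a, h8, h4]
    have : 2 ^ 8 = 256 := by norm_num
    omega

/-- degree `16` -/
theorem of_sixteen (hreg : stabilizer R a = ⊥) (hcomm : ∀ x y : R, x * y = y * x)
    (h2 : ∀ x : R, x ^ 2 = 1) (h16 : Nat.card α = 16) (ih : Bd 2 8) :
    Nat.card (ConjClasses G) ≤ 2 ^ (Nat.card α - 1) := by
  have hc := card_regular R a hreg
  let : CommGroup R := { (inferInstance : Group R) with mul_comm := hcomm }
  have hp2 : Fact (Nat.Prime 2) := ⟨Nat.prime_two⟩
  obtain ⟨e⟩ := Lib.ElemAbGL.mulAut_equiv_GL (V := R) 2 4 h2 (by rw [hc, h16]; norm_num)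
  obtain ⟨e2⟩ := H168.gl_equiv (F := ZMod 2) (ZMod.card 2)
  let f : stabilizer G a →* Equiv.Perm (Fin 8) :=
    (alternatingGroup (Fin 8)).subtype.comp (e2.toMonoidHom.comp
      (e.toMonoidHom.comp (conjHom R a)))
  have hf : Function.Injective f := Subtype.coe_injective.comp (e2.injective.comp
    (e.injective.comp (conjHom_injective R a)))
  have h1 := ih.of_injective (by simp) f hf
  have h3 := le_mul (G := G) a
  rw [h16] at h3 ⊢
  calc Nat.card (ConjClasses G) ≤ _ := h3
    _ ≤ 16 * 2 ^ (8 - 1) := Nat.mul_le_mul_left _ h1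
    _ ≤ _ := by norm_num

/-- **degree `n ≥ 5`, a regular elementary abelian normal subgroup** -/
theorem of_abelian (hreg : stabilizer R a = ⊥) (hcomm : ∀ x y : R, x * y = y * x)
    (p : ℕ) (hp : p.Prime) (hpow : ∀ x : R, x ^ p = 1) (h5 : 5 ≤ Nat.card α)
    (ih : ∀ m, m < Nat.card α → Bd 2 m) :
    Nat.card (ConjClasses G) ≤ 2 ^ (Nat.card α - 1) := by
  rcases Nat.lt_or_ge (Nat.card α) 32 with h32 | h32
  swap
  · exact of_large R a hreg h32
  have hc := card_regular R a hreg
  have hpf : Fact p.Prime := ⟨hp⟩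
  have hpg : IsPGroup p R := fun x => ⟨1, by rw [pow_one]; exact hpow x⟩
  obtain ⟨d, hd⟩ := IsPGroup.iff_card.1 hpg
  rw [hc] at hd
  by_cases hp2 : p = 2
  · subst hp2
    have hd3 : 3 ≤ d := by
      by_contra hcon
      have : 2 ^ d ≤ 2 ^ 2 := Nat.pow_le_pow_right (by norm_num) (by omega)
      omega
    have hd4 : d ≤ 4 := by
      by_contra hcon
      have : 2 ^ 5 ≤ 2 ^ d := Nat.pow_le_pow_right (by norm_num) (by omega)
      omega
    have hd34 : d = 3 ∨ d = 4 := by omega
    rcases hd34 with rfl | rfl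
    · exact of_eight R a hreg hcomm hpow (by rw [hd]; norm_num)
    · exact of_sixteen R a hreg hcomm hpow (by rw [hd]; norm_num) (ih 8 (by rw [hd]; norm_num))
  · have hodd : Odd (Nat.card α) := by
      rw [hd]
      exact (hp.odd_of_ne_two hp2).pow
    rcases Nat.lt_or_ge (Nat.card α) 7 with h7 | h7
    · have h55 : Nat.card α = 5 := by
        obtain ⟨k, hk⟩ := hodd
        omega
      exact of_five R a hreg h55
    · exact of_odd R a hreg hcomm hodd h7 ih

end

end Cfsg.Agent.H539.CaseA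
end

-- part: H539/SocBound
section
set_option autoImplicit false
set_option linter.unusedSectionVars false

/-!
# Groups with a normal subgroup `T ^ m`, `T` non-abelian simple, with trivial centralizer

`card_conjClasses_le`: there is a homomorphism `π : G →* Perm (Fin m)` with
`k(G) ≤ (|Out T| k(T)) ^ m * k(π(G))`.
-/

open MulAction

namespace Cfsg.Agent.H539.SocBound

open Cfsg.Agent.H540.ClassNum Cfsg.Agent.H539.BlockRed Cfsg.Agent.H539.PrimRed

section Single

variable {T : Type*} [Group T] [IsSimpleGroup T] {m : ℕ}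

omit [IsSimpleGroup T] in
theorem single_injective (i : Fin m) :
    Function.Injective (MonoidHom.mulSingle (fun _ : Fin m => T) i) := by
  intro s t h
  have h1 := congrFun h i
  simpa using h1

theorem exists_single [Finite T] (hT : ¬ IsMulCommutative T) (θ : (Fin m → T) ≃* (Fin m → T))
    (i : Fin m) :
    ∃ j, (MonoidHom.mulSingle (fun _ : Fin m => T) i).range.map θ.toMonoidHom =
      (MonoidHom.mulSingle (fun _ : Fin m => T) j).range := by
  classical
  set N1 := (MonoidHom.mulSingle (fun _ : Fin m => T) i).range.map θ.toMonoidHom with hN1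
  have hn0 : (MonoidHom.mulSingle (fun _ : Fin m => T) i).range.Normal := by
    constructor
    rintro _ ⟨t, rfl⟩ g
    refine ⟨g i * t * (g i)⁻¹, ?_⟩
    ext j
    by_cases hj : j = i
    · subst hj
      simp only [_root_.MonoidHom.mulSingle_apply, _root_.Pi.mulSingle_eq_same, _root_.Pi.mul_apply, _root_.Pi.inv_apply]
    · simp only [Pi.mulSingle_eq_of_ne hj, _root_.MonoidHom.mulSingle_apply, _root_.Pi.mul_apply, _root_.mul_one, _root_.Pi.inv_apply, _root_.mul_inv_cancel]
  have hn1 : N1.Normal := Subgroup.Normal.map hn0 _ θ.surjective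
  obtain ⟨t, ht⟩ := exists_ne (1 : T)
  have h1 : θ (Pi.mulSingle i t) ≠ 1 := by
    intro h
    apply ht
    rw [← map_one θ, θ.injective.eq_iff] at h
    have h2 := congrFun h i
    simpa using h2
  obtain ⟨j, hj⟩ : ∃ j, θ (Pi.mulSingle i t) j ≠ 1 := by
    by_contra hcon
    push Not at hcon
    exact h1 (funext hcon)
  have h2 : θ (Pi.mulSingle i t) ∈ N1 := ⟨_, ⟨t, rfl⟩, rfl⟩
  have h3 := H941.PiSimple.singleSub_eq_top hT h2 hj
  refine ⟨j, ?_⟩
  have h4 : (MonoidHom.mulSingle (fun _ : Fin m => T) j).range ≤ N1 := by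
    rintro _ ⟨s, rfl⟩
    have : s ∈ H941.PiSimple.singleSub N1 j := by rw [h3]; trivial
    exact H941.PiSimple.mem_singleSub.1 this
  symm
  apply Subgroup.eq_of_le_of_card_ge h4
  rw [hN1]
  have h5 : Nat.card ((MonoidHom.mulSingle (fun _ : Fin m => T) i).range.map θ.toMonoidHom) =
      Nat.card (MonoidHom.mulSingle (fun _ : Fin m => T) i).range :=
    (Nat.card_congr (Subgroup.equivMapOfInjective _ θ.toMonoidHom θ.injective).toEquiv).symm
  rw [h5]
  have h6 : ∀ i : Fin m, Nat.card (MonoidHom.mulSingle (fun _ : Fin m => T) i).range = Nat.card T :=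
    fun i => (Nat.card_congr (MonoidHom.ofInjective (f := MonoidHom.mulSingle (fun _ : Fin m => T) i)
      (single_injective i)).toEquiv).symm
  rw [h6, h6]

end Single

section Main

variable {G : Type*} [Group G] (N : Subgroup G) [N.Normal] {T : Type*} [Group T]
  {m : ℕ} (e : N ≃* (Fin m → T))

/-- the embedding of the `i`-th factor -/
def io (i : Fin m) : T →* G :=
  N.subtype.comp (e.symm.toMonoidHom.comp (MonoidHom.mulSingle (fun _ : Fin m => T) i))

theorem io_injective (i : Fin m) : Function.Injective (io N e i) :=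
  (Subtype.coe_injective.comp e.symm.injective).comp (single_injective i)

theorem io_comm {i j : Fin m} (hij : i ≠ j) (s t : T) : Commute (io N e i s) (io N e j t) := by
  have h1 : Commute (MonoidHom.mulSingle (fun _ : Fin m => T) i s)
      (MonoidHom.mulSingle (fun _ : Fin m => T) j t) :=
    Pi.mulSingle_commute (f := fun _ : Fin m => T) hij s t
  exact (h1.map e.symm.toMonoidHom).map N.subtype

/-- the `i`-th factor -/
def F (i : Fin m) : Subgroup G := (io N e i).range

theorem F_injective [Nontrivial T] : Function.Injective (F N e) := by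
  intro i j hij
  by_contra hne
  obtain ⟨t, ht⟩ := exists_ne (1 : T)
  have h1 : io N e i t ∈ F N e j := by rw [← hij]; exact ⟨t, rfl⟩
  obtain ⟨s, hs⟩ := h1
  have h2 : (e.symm (Pi.mulSingle j s) : N) = e.symm (Pi.mulSingle i t) := Subtype.ext hs
  have h3 := congrFun (e.symm.injective h2) i
  rw [Pi.mulSingle_eq_same, Pi.mulSingle_eq_of_ne hne] at h3
  exact ht h3.symm

theorem F_conj [Finite G] [IsSimpleGroup T] (hT : ¬ IsMulCommutative T) (g : G) (i : Fin m) :
    ∃ j, F N e j = (F N e i).map (MulAut.conj g).toMonoidHom := by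
  have hfin : Finite T := Finite.of_injective _ (io_injective N e i)
  let c : N ≃* N := MulAut.conjNormal g
  let θ : (Fin m → T) ≃* (Fin m → T) := e.symm.trans (c.trans e)
  obtain ⟨j, hj⟩ := exists_single hT θ i
  refine ⟨j, ?_⟩
  have h1 : ∀ k, F N e k = (MonoidHom.mulSingle (fun _ : Fin m => T) k).range.map
      (N.subtype.comp e.symm.toMonoidHom) := by
    intro k
    rw [MonoidHom.map_range]
    rfl
  rw [h1, h1, ← hj, Subgroup.map_map, Subgroup.map_map]
  congr 1
  ext x
  show ((e.symm (θ x) : N) : G) = g * ((e.symm x : N) : G) * g⁻¹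
  have h2 : e.symm (θ x) = c (e.symm x) := by
    show e.symm (e (c (e.symm x))) = _
    rw [e.symm_apply_apply]
  rw [h2]
  exact MulAut.conjNormal_apply g (e.symm x)

variable [Finite G] [IsSimpleGroup T] (hT : ¬ IsMulCommutative T)

/-- the action on the factors -/
@[instance_reducible] noncomputable def act (hT : ¬ IsMulCommutative T) : MulAction G (Fin m) where
  smul g i := Classical.choose (F_conj N e hT g i)
  one_smul i := by
    apply F_injective N e
    refine (Classical.choose_spec (F_conj N e hT 1 i)).trans ?_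
    ext x
    simp only [_root_.map_one, _root_.MulEquiv.toMonoidHom_eq_coe, _root_.Subgroup.mem_map, _root_.MonoidHom.coe_coe, _root_.MulAut.one_apply, _root_.exists_eq_right]
  mul_smul g h i := by
    apply F_injective N e
    refine (Classical.choose_spec (F_conj N e hT (g * h) i)).trans ?_
    refine Eq.trans ?_ (Classical.choose_spec (F_conj N e hT g _)).symm
    refine Eq.trans ?_ (congrArg _ (Classical.choose_spec (F_conj N e hT h i)).symm)
    rw [Subgroup.map_map]
    congr 1
    ext x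
    simp [mul_assoc]

/-- the action on the factors -/
noncomputable def perm : G →* Equiv.Perm (Fin m) :=
  @MulAction.toPermHom G (Fin m) _ (act N e hT)

theorem F_perm (g : G) (i : Fin m) :
    F N e (perm N e hT g i) = (F N e i).map (MulAut.conj g).toMonoidHom :=
  Classical.choose_spec (F_conj N e hT g i)

theorem mem_normalizer (g : (perm N e hT).ker) (i : Fin m) :
    (g : G) ∈ Subgroup.normalizer (F N e i : Set G) := by
  have h1 : perm N e hT g = 1 := g.2
  have h2 := F_perm N e hT g i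
  rw [h1, Equiv.Perm.one_apply] at h2
  rw [Subgroup.mem_normalizer_iff]
  intro x
  constructor
  · intro hx
    rw [h2]
    exact ⟨x, hx, rfl⟩
  · intro hx
    rw [h2] at hx
    obtain ⟨y, hy, hyx⟩ := hx
    have h3 : (g : G) * y * (g : G)⁻¹ = g * x * (g : G)⁻¹ := hyx
    rw [mul_left_inj, mul_right_inj] at h3
    rwa [← h3]

/-- the action of the kernel on the `i`-th factor -/
noncomputable def fac (i : Fin m) : (perm N e hT).ker →* MulAut (F N e i) :=
  ((F N e i).normalizerMonoidHom).comp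
    (Subgroup.inclusion (fun g hg => mem_normalizer N e hT ⟨g, hg⟩ i))

theorem mem_ker_of_mem (i : Fin m) (t : T) : io N e i t ∈ (perm N e hT).ker := by
  rw [MonoidHom.mem_ker]
  ext1 j
  apply F_injective N e
  rw [F_perm, Equiv.Perm.one_apply]
  by_cases hij : i = j
  · subst hij
    have h1 : io N e i t ∈ F N e i := ⟨t, rfl⟩
    apply le_antisymm
    · rintro _ ⟨x, hx, rfl⟩
      exact mul_mem (mul_mem h1 hx) (inv_mem h1)
    · intro x hx
      refine ⟨(io N e i t)⁻¹ * x * io N e i t, mul_mem (mul_mem (inv_mem h1) hx) h1, ?_⟩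
      show io N e i t * ((io N e i t)⁻¹ * x * io N e i t) * (io N e i t)⁻¹ = x
      group
  · have h2 : ∀ x ∈ F N e j, io N e i t * x * (io N e i t)⁻¹ = x := by
      rintro _ ⟨s, rfl⟩
      rw [(io_comm N e hij t s).eq, mul_inv_cancel_right]
    apply le_antisymm
    · rintro _ ⟨x, hx, rfl⟩
      show io N e i t * x * (io N e i t)⁻¹ ∈ _
      rw [h2 x hx]
      exact hx
    · intro x hx
      exact ⟨x, hx, h2 x hx⟩

theorem eq_one_of_fac (hC : Subgroup.centralizer (N : Set G) = ⊥) (g : (perm N e hT).ker)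
    (h : ∀ i, fac N e hT i g = 1) : g = 1 := by
  have h1 : (g : G) ∈ Subgroup.centralizer (N : Set G) := by
    rw [Subgroup.mem_centralizer_iff]
    intro x hx
    -- the elements commuting with `g`
    have h2 : ∀ f : Fin m → T, ((e.symm f : N) : G) * g = g * ((e.symm f : N) : G) := by
      have h3 : ∀ f : Fin m → T, f ∈ (Subgroup.centralizer ({(g : G)} : Set G)).comap
          (N.subtype.comp e.symm.toMonoidHom) := by
        intro f
        refine Subgroup.pi_mem_of_mulSingle_mem f fun i => ?_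
        rw [Subgroup.mem_comap, Subgroup.mem_centralizer_singleton_iff]
        have h4 := congrArg (fun a : MulAut (F N e i) => ((a ⟨io N e i (f i), ⟨f i, rfl⟩⟩ : F N e i) : G))
          (h i)
        have h5 : (g : G) * io N e i (f i) * (g : G)⁻¹ = io N e i (f i) := h4
        rw [mul_inv_eq_iff_eq_mul] at h5
        exact h5.symm
      intro f
      have h4 := h3 f
      rw [Subgroup.mem_comap, Subgroup.mem_centralizer_singleton_iff] at h4
      exact h4
    have h3 := h2 (e ⟨x, hx⟩)
    rw [e.symm_apply_apply] at h3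
    exact h3
  rw [hC] at h1
  exact Subtype.ext (Subgroup.mem_bot.1 h1)

end Main

/-- subgroups of `Aut T` containing `Inn T` -/
theorem out_bound {T : Type*} [Group T] [Finite T] (hZ : Subgroup.center T = ⊥)
    (M : Subgroup (MulAut T)) (hM : (MulAut.conj : T →* MulAut T).range ≤ M) :
    Nat.card (ConjClasses M) ≤ Nat.card (Cfsg.Out T) * Nat.card (ConjClasses T) := by
  have h1 := le_index_mul' ((MulAut.conj : T →* MulAut T).range.subgroupOf M)
  have hinj : Function.Injective (MulAut.conj : T →* MulAut T) := by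
    rw [← MonoidHom.ker_eq_bot_iff, eq_bot_iff]
    intro x hx
    have h2 : x ∈ Subgroup.center T := by
      rw [Subgroup.mem_center_iff]
      intro y
      have h3 := congrArg (fun a : MulAut T => a y) hx
      have h4 : x * y * x⁻¹ = y := h3
      rw [mul_inv_eq_iff_eq_mul] at h4
      exact h4.symm
    rwa [hZ] at h2
  have h2 : Nat.card (ConjClasses ((MulAut.conj : T →* MulAut T).range.subgroupOf M)) =
      Nat.card (ConjClasses T) := by
    rw [card_conjClasses_congr (Subgroup.subgroupOfEquivOfLe hM),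
      card_conjClasses_congr (MonoidHom.ofInjective hinj)]
  rw [h2] at h1
  refine h1.trans (Nat.mul_le_mul_right _ ?_)
  have h3 : ((MulAut.conj : T →* MulAut T).range.subgroupOf M).index * M.index =
      (MulAut.conj : T →* MulAut T).range.index := Subgroup.relIndex_mul_index hM
  have h4 : Nat.card (Cfsg.Out T) = (MulAut.conj : T →* MulAut T).range.index := rfl
  rw [h4, ← h3]
  exact Nat.le_mul_of_pos_right _ (Nat.pos_of_ne_zero Subgroup.index_ne_zero_of_finite)

/-- **the class number bound for groups with socle `T ^ m`** -/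
theorem card_conjClasses_le {G : Type*} [Group G] [Finite G] (N : Subgroup G) [N.Normal]
    (hC : Subgroup.centralizer (N : Set G) = ⊥) {T : Type*} [Group T] [IsSimpleGroup T]
    (hT : ¬ IsMulCommutative T) {m : ℕ} (e : N ≃* (Fin m → T)) :
    ∃ π : G →* Equiv.Perm (Fin m), Nat.card (ConjClasses G) ≤
      (Nat.card (Cfsg.Out T) * Nat.card (ConjClasses T)) ^ m * Nat.card (ConjClasses π.range) := by
  refine ⟨perm N e hT, (le_ker_mul_range (perm N e hT)).trans (Nat.mul_le_mul_right _ ?_)⟩
  refine (family' (fac N e hT) (fun i => (MulAut.conj : F N e i →* MulAut (F N e i)).range)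
    (fun _ => Nat.card (Cfsg.Out T) * Nat.card (ConjClasses T)) ?_ ?_ ?_).trans ?_
  · intro i M hM
    have hfin : Finite T := Finite.of_injective _ (io_injective N e i)
    let ε : T ≃* F N e i := MonoidHom.ofInjective (io_injective N e i)
    have hZ : Subgroup.center (F N e i) = ⊥ := by
      have : IsSimpleGroup (F N e i) := (MulEquiv.isSimpleGroup_congr ε).1 inferInstance
      apply center_eq_bot
      intro h
      apply hT
      refine ⟨⟨fun a b => ?_⟩⟩
      apply ε.injective
      rw [map_mul, map_mul]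
      exact h.is_comm.comm _ _
    have h1 := out_bound hZ M hM
    rwa [← H55.OutGen.card_out_congr ε, ← card_conjClasses_congr ε] at h1
  · rintro i _ ⟨⟨_, t, rfl⟩, rfl⟩
    refine ⟨⟨io N e i t, mem_ker_of_mem N e hT i t⟩, ?_, ?_⟩
    · ext x
      rfl
    intro j hj
    ext x
    obtain ⟨_, s, rfl⟩ := x
    show io N e i t * io N e j s * (io N e i t)⁻¹ = io N e j s
    rw [(io_comm N e hj.symm t s).eq, mul_inv_cancel_right]
  · intro x hx
    exact eq_one_of_fac N e hT hC x hx
  · rw [Finset.prod_const, Finset.card_univ, Fintype.card_fin]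

end Cfsg.Agent.H539.SocBound
end

-- part: H539/CaseB
section
set_option autoImplicit false
set_option linter.unusedSectionVars false

/-!
# Class numbers of primitive groups with a unique non-abelian minimal normal subgroup

`product_one` (`m = 1`), `product_two` (`m ≥ 2`, product action), `diagonal`.
-/

open MulAction

namespace Cfsg.Agent.H539.CaseB

open Cfsg.Agent.H540.ClassNum Cfsg.Agent.H539.BlockRed Cfsg.Agent.H539.PrimRed

/-! ### arithmetic -/

theorem mul_le_pow {d m : ℕ} (hd : 2 ≤ d) (hm : 1 ≤ m) : d * m ≤ d ^ m := by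
  obtain ⟨k, rfl⟩ : ∃ k, m = k + 1 := ⟨m - 1, by omega⟩
  rw [pow_succ']
  refine Nat.mul_le_mul_left _ ?_
  have : k < 2 ^ k := Nat.lt_two_pow_self
  calc k + 1 ≤ 2 ^ k := this
    _ ≤ d ^ k := Nat.pow_le_pow_left hd k

theorem num_one {C d m n : ℕ} (hd : 2 ≤ d) (hm : 1 ≤ m) (hC : C ≤ 2 ^ (d - 1)) (hn : d ^ m ≤ n) :
    C ^ m * 2 ^ (m - 1) ≤ 2 ^ (n - 1) := by
  calc C ^ m * 2 ^ (m - 1) ≤ (2 ^ (d - 1)) ^ m * 2 ^ (m - 1) :=
        Nat.mul_le_mul_right _ (Nat.pow_le_pow_left hC m)
    _ = 2 ^ ((d - 1) * m + (m - 1)) := by rw [← pow_mul, ← pow_add]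
    _ ≤ 2 ^ (n - 1) := by
        apply Nat.pow_le_pow_right (by norm_num)
        have h1 := mul_le_pow hd hm
        obtain ⟨k, rfl⟩ : ∃ k, d = k + 1 := ⟨d - 1, by omega⟩
        have h2 : (k + 1) * m = k * m + m := by ring
        rw [Nat.add_sub_cancel]
        omega

theorem num_diag {C t m s n : ℕ} (ht : 2 ≤ t) (hs : 1 ≤ s) (hm : 1 ≤ m) (hms : m ≤ 2 * s)
    (hC : C ≤ 2 ^ (t / 2 - 1)) (hn : t ^ s ≤ n) : C ^ m * 2 ^ (m - 1) ≤ 2 ^ (n - 1) := by
  calc C ^ m * 2 ^ (m - 1) ≤ (2 ^ (t / 2 - 1)) ^ m * 2 ^ (m - 1) :=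
        Nat.mul_le_mul_right _ (Nat.pow_le_pow_left hC m)
    _ = 2 ^ ((t / 2 - 1) * m + (m - 1)) := by rw [← pow_mul, ← pow_add]
    _ ≤ 2 ^ (n - 1) := by
        apply Nat.pow_le_pow_right (by norm_num)
        have h1 := mul_le_pow ht hs
        obtain ⟨k, hk⟩ : ∃ k, t / 2 = k + 1 := ⟨t / 2 - 1, by omega⟩
        have h2 : (k + 1) * m ≤ t * s := by
          calc (k + 1) * m ≤ (k + 1) * (2 * s) := Nat.mul_le_mul_left _ hms
            _ = (2 * (k + 1)) * s := by ring
            _ ≤ t * s := Nat.mul_le_mul_right _ (by omega)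
        have h3 : (k + 1) * m = k * m + m := by ring
        rw [hk, Nat.add_sub_cancel]
        omega

/-! ### degrees -/

section Degree

variable {G α : Type*} [Group G] [Finite G] [MulAction G α] [Finite α]
  (N : Subgroup G) [N.Normal] [IsPretransitive N α] {T : Type*} [Group T] {m : ℕ}
  (e : N ≃* (Fin m → T)) (a : α)

theorem degree_product (K : Fin m → Subgroup T)
    (hstab : ∀ n : N, (n : G) ∈ stabilizer G a ↔ ∀ i, e n i ∈ K i) :
    Nat.card α = ∏ i, (K i).index := by
  rw [← index_stabilizer_of_transitive N a, ← Subgroup.index_pi,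
    ← Subgroup.index_comap_of_surjective _ (f := e.toMonoidHom) e.surjective]
  congr 1
  ext x
  rw [Subgroup.mem_comap, Subgroup.mem_pi]
  have h1 : x ∈ stabilizer N a ↔ (x : G) ∈ stabilizer G a := Iff.rfl
  rw [h1, hstab]
  simp only [_root_.Set.mem_univ, _root_.MulEquiv.toMonoidHom_eq_coe, _root_.MonoidHom.coe_coe, _root_.forall_const]

theorem degree_diagonal [Finite T] (c : Fin m → Fin m)
    (hstab : ∀ n : N, (n : G) ∈ stabilizer G a ↔ ∀ i j : Fin m, c i = c j → e n i = e n j) :
    Nat.card α * Nat.card T ^ Nat.card (Set.range c) = Nat.card T ^ m := by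
  classical
  let D : Subgroup (Fin m → T) :=
    { carrier := {f | ∀ i j : Fin m, c i = c j → f i = f j}
      mul_mem' := fun {f g} hf hg i j hij => by
        rw [Pi.mul_apply, Pi.mul_apply, hf i j hij, hg i j hij]
      one_mem' := fun i j _ => rfl
      inv_mem' := fun {f} hf i j hij => by
        rw [Pi.inv_apply, Pi.inv_apply, hf i j hij] }
  have h1 : Nat.card α = D.index := by
    rw [← index_stabilizer_of_transitive N a,
      ← Subgroup.index_comap_of_surjective D (f := e.toMonoidHom) e.surjective]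
    congr 1
    ext x
    rw [Subgroup.mem_comap]
    have h1 : x ∈ stabilizer N a ↔ (x : G) ∈ stabilizer G a := Iff.rfl
    rw [h1, hstab]
    rfl
  have h2 : Nat.card D = Nat.card T ^ Nat.card (Set.range c) := by
    rw [← Nat.card_fun]
    let φ : Set.range c → Fin m := fun y => Classical.choose y.2
    have hφ : ∀ y, c (φ y) = y := fun y => Classical.choose_spec y.2
    refine Nat.card_congr
      { toFun := fun f y => f.1 (φ y)
        invFun := fun g => ⟨fun i => g ⟨c i, ⟨i, rfl⟩⟩, fun i j hij => by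
          show g ⟨c i, _⟩ = g ⟨c j, _⟩
          congr 1
          exact Subtype.ext hij⟩
        left_inv := fun f => by
          apply Subtype.ext
          funext i
          exact f.2 _ _ (hφ ⟨c i, ⟨i, rfl⟩⟩)
        right_inv := fun g => by
          funext y
          show g ⟨c (φ y), _⟩ = g y
          congr 1
          exact Subtype.ext (hφ y) }
  rw [h1, ← h2, mul_comm, D.card_mul_index, Nat.card_fun, Nat.card_eq_fintype_card (α := Fin m),
    Fintype.card_fin]

end Degree

/-- blocks of a common size `k ≥ 2` -/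
theorem two_mul_card_range_le {m k : ℕ} (hk : 2 ≤ k) (c : Fin m → Fin m)
    (hc : ∀ j : Fin m, Nat.card {i : Fin m // c i = j} = k ∨
      Nat.card {i : Fin m // c i = j} = 0) : 2 * Nat.card (Set.range c) ≤ m := by
  classical
  have h1 : m = ∑ j : Fin m, Nat.card {i : Fin m // c i = j} := by
    have h2 := Fintype.card_congr (Equiv.sigmaFiberEquiv c)
    rw [Fintype.card_sigma, Fintype.card_fin] at h2
    refine h2.symm.trans ?_
    exact Finset.sum_congr rfl fun j _ => by rw [Nat.card_eq_fintype_card]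
  have h3 : Nat.card (Set.range c) = ∑ j : Fin m, if j ∈ Set.range c then 1 else 0 := by
    rw [Nat.card_eq_fintype_card, Finset.sum_boole, Fintype.card_subtype]
    rfl
  rw [h3, Finset.mul_sum]
  conv_rhs => rw [h1]
  refine Finset.sum_le_sum fun j _ => ?_
  split_ifs with hj
  · obtain ⟨i, hi⟩ := hj
    rcases hc j with h | h
    · omega
    · exfalso
      have : Nonempty {i : Fin m // c i = j} := ⟨⟨i, hi⟩⟩
      have := Nat.card_pos (α := {i : Fin m // c i = j})
      omega
  · omega

section Main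

variable {G α : Type*} [Group G] [Finite G] [MulAction G α] [Finite α]
  (N : Subgroup G) [N.Normal] [IsPretransitive N α] {T : Type*} [Group T] [IsSimpleGroup T]
  (hT : ¬ IsMulCommutative T) (hC : Subgroup.centralizer (N : Set G) = ⊥) {m : ℕ}
  (e : N ≃* (Fin m → T)) (a : α) (ih : ∀ k, k < Nat.card α → Bd 2 k)

include hT hC ih e

theorem aux (hm : m < Nat.card α) : Nat.card (ConjClasses G) ≤
    (Nat.card (Cfsg.Out T) * Nat.card (ConjClasses T)) ^ m * 2 ^ (m - 1) := by
  obtain ⟨π, hπ⟩ := SocBound.card_conjClasses_le N hC hT e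
  exact hπ.trans (Nat.mul_le_mul_left _ ((ih m hm) _))

theorem exists_min [Finite T] (hm0 : 0 < m) (K : Fin m → Subgroup T) (hK : ∀ i, K i ≠ ⊤)
    (hstab : ∀ n : N, (n : G) ∈ stabilizer G a ↔ ∀ i, e n i ∈ K i) :
    ∃ i, 2 ≤ (K i).index ∧ (K i).index ^ m ≤ Nat.card α ∧
      (m = 1 → (K i).index = Nat.card α) := by
  have h0 := degree_product N e a K hstab
  obtain ⟨i, _, hi⟩ := Finset.exists_min_image Finset.univ (fun i => (K i).index)
    ⟨⟨0, hm0⟩, Finset.mem_univ _⟩
  refine ⟨i, ?_, ?_, ?_⟩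
  · have h1 : (K i).index ≠ 0 := Subgroup.index_ne_zero_of_finite
    have h2 : (K i).index ≠ 1 := fun h => hK i (Subgroup.index_eq_one.1 h)
    omega
  · rw [h0]
    have h1 := Finset.pow_card_le_prod (s := (Finset.univ : Finset (Fin m))) (f := fun i => (K i).index)
      (n := (K i).index) (fun j hj => hi j hj)
    simpa only [_root_.ge_iff_le, _root_.Finset.card_univ, _root_.Fintype.card_fin] using h1
  · rintro rfl
    rw [h0]
    simp only [Finset.univ_unique, Fin.default_eq_zero, Fin.isValue, Finset.prod_singleton]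
    congr 1
    congr 1
    exact Subsingleton.elim _ _

/-- `m = 1` or all `m ≥ 1`, from `IdxOK`. -/
theorem product_one [Finite T] (hm0 : 0 < m) (K : Fin m → Subgroup T) (hK : ∀ i, K i ≠ ⊤)
    (hstab : ∀ n : N, (n : G) ∈ stabilizer G a ↔ ∀ i, e n i ∈ K i) (hOK : IdxOK T) :
    Nat.card (ConjClasses G) ≤ 2 ^ (Nat.card α - 1) := by
  obtain ⟨i, h2, hn, _⟩ := exists_min N hT hC e a ih hm0 K hK hstab
  have hm : m < Nat.card α := by
    have h3 := mul_le_pow h2 hm0
    nlinarith
  exact (aux N hT hC e ih hm).trans (num_one h2 hm0 (hOK (K i) (hK i)) hn)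

/-- diagonal action -/
theorem diagonal [Finite T] (hm0 : 0 < m) (k : ℕ) (c : Fin m → Fin m) (hk : 2 ≤ k)
    (hc : ∀ j : Fin m, Nat.card {i : Fin m // c i = j} = k ∨
      Nat.card {i : Fin m // c i = j} = 0)
    (hstab : ∀ n : N, (n : G) ∈ stabilizer G a ↔ ∀ i j : Fin m, c i = c j → e n i = e n j)
    (hOK : Nat.card (Cfsg.Out T) * Nat.card (ConjClasses T) ≤ 2 ^ (Nat.card T / 2 - 1)) :
    Nat.card (ConjClasses G) ≤ 2 ^ (Nat.card α - 1) := by
  have h1 := degree_diagonal N e a c hstab
  have h2 := two_mul_card_range_le hk c hc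
  have ht : 2 ≤ Nat.card T := Finite.one_lt_card
  set r := Nat.card (Set.range c) with hr
  have h3 : Nat.card α = Nat.card T ^ (m - r) := by
    have h4 : Nat.card T ^ m = Nat.card T ^ (m - r) * Nat.card T ^ r := by
      rw [← pow_add]
      congr 1
      omega
    rw [h4] at h1
    exact Nat.eq_of_mul_eq_mul_right (pow_pos (by omega) _) h1
  have hm : m < Nat.card α := by
    rw [h3]
    have h5 : 3 ≤ Nat.card T := by
      by_contra hcon
      have h6 : Nat.card T = 2 := by omega
      have h7 : Fact (Nat.Prime 2) := ⟨Nat.prime_two⟩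
      have h8 : IsCyclic T := isCyclic_of_prime_card h6
      exact hT ⟨⟨fun a b => by
        obtain ⟨g, hg⟩ := h8.exists_generator
        obtain ⟨i, rfl⟩ := hg a
        obtain ⟨j, rfl⟩ := hg b
        show g ^ i * g ^ j = g ^ j * g ^ i
        rw [← zpow_add, ← zpow_add, add_comm]⟩⟩
    have h6 := mul_le_pow ht (by omega : 1 ≤ m - r)
    have h7 : 3 * (m - r) ≤ Nat.card T * (m - r) := Nat.mul_le_mul_right _ h5
    omega
  exact (aux N hT hC e ih hm).trans (num_diag ht (s := m - r) (by omega) hm0 (by omega) hOK h3.ge)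

end Main

end Cfsg.Agent.H539.CaseB
end

-- part: H539/Asm
section
set_option autoImplicit false

/-!
# `k(S) ≤ 2 ^ (n - 1)` for permutation groups, from the table `IdxOK`

`main`: if all finite non-abelian simple groups `T` satisfy `IdxOK T`, then every permutation group
of degree `n` has at most `2 ^ (n - 1)` classes.
-/

open MulAction

namespace Cfsg.Agent.H539.Asm

open Cfsg.Agent.H540.ClassNum Cfsg.Agent.H539.BlockRed Cfsg.Agent.H539.PrimRed
  Cfsg.Agent.H539.CaseA Cfsg.Agent.H539.CaseB Cfsg.Agent.H539.PartCount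

/-- the table -/
def Tab : Prop := ∀ (T : Type) [Group T] [Finite T] [IsSimpleGroup T], ¬ IsMulCommutative T →
  IdxOK T

theorem exists_min_normal {G : Type*} [Group G] [Finite G] (K : Subgroup G) [hK : K.Normal]
    (hK0 : K ≠ ⊥) : ∃ N : Subgroup G, N ≤ K ∧ N.Normal ∧ N ≠ ⊥ ∧
      ∀ M : Subgroup G, M.Normal → M ≤ N → M = ⊥ ∨ M = N := by
  have hfin : {N : Subgroup G | N ≤ K ∧ N.Normal ∧ N ≠ ⊥}.Finite := Set.toFinite _
  have hne : {N : Subgroup G | N ≤ K ∧ N.Normal ∧ N ≠ ⊥}.Nonempty := ⟨K, le_rfl, hK, hK0⟩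
  obtain ⟨N, ⟨hNK, hNn, hN0⟩, hmin⟩ := hfin.exists_minimal hne
  refine ⟨N, hNK, hNn, hN0, fun M hM hMN => ?_⟩
  by_cases hM0 : M = ⊥
  · exact Or.inl hM0
  · exact Or.inr (le_antisymm hMN (hmin ⟨hMN.trans hNK, hM, hM0⟩ hMN))

theorem trans_of_normal {G α : Type*} [Group G] [MulAction G α] [FaithfulSMul G α]
    [IsPreprimitive G α] (N : Subgroup G) [N.Normal] (hN : N ≠ ⊥) : IsPretransitive N α := by
  apply IsQuasiPreprimitive.isPretransitive_of_normal
  intro hu
  apply hN
  rw [eq_bot_iff]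
  intro z hz
  apply FaithfulSMul.eq_of_smul_eq_smul (α := α)
  intro x
  have hx : x ∈ fixedPoints N α := by rw [hu]; trivial
  rw [one_smul]
  exact hx ⟨z, hz⟩

theorem not_solvable {G : Type*} [Group G] (N : Subgroup G) [hNn : N.Normal] (hN : N ≠ ⊥)
    (hmin : ∀ M : Subgroup G, M.Normal → M ≤ N → M = ⊥ ∨ M = N) (hnab : ¬ IsMulCommutative N) :
    ¬ Group.IsSolvable N := by
  intro hs
  have h1 : (⁅N, N⁆ : Subgroup G).Normal := inferInstance
  have h2 : (⁅N, N⁆ : Subgroup G) ≤ N := Subgroup.commutator_le_left N N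
  rcases hmin _ h1 h2 with h | h
  · apply hnab
    refine ⟨⟨fun a b => Subtype.ext ?_⟩⟩
    have h3 := Subgroup.commutator_mem_commutator a.2 b.2
    rw [h, Subgroup.mem_bot, commutatorElement_eq_one_iff_mul_comm] at h3
    exact h3
  · -- perfect and solvable
    apply hN
    have h3 : _root_.commutator N = ⊤ := by
      rw [eq_top_iff]
      have h4 : (_root_.commutator N).map N.subtype = ⁅N, N⁆ := by
        rw [_root_.commutator_def, Subgroup.map_commutator, ← MonoidHom.range_eq_map,
          Subgroup.range_subtype]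
      intro x _
      have h5 : (x : G) ∈ (_root_.commutator N).map N.subtype := by rw [h4, h]; exact x.2
      obtain ⟨y, hy, hyx⟩ := h5
      have : y = x := Subtype.ext hyx
      rwa [← this]
    have h4 : ∀ n, derivedSeries N n = ⊤ := by
      intro n
      induction n with
      | zero => rfl
      | succ n ih => rw [derivedSeries_succ, ih]; exact h3
    obtain ⟨n, hn⟩ := (Group.isSolvable_def N).1 hs
    rw [h4 n] at hn
    rw [eq_bot_iff]
    intro x hx
    have : (⟨x, hx⟩ : N) ∈ (⊤ : Subgroup N) := trivial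
    rw [hn, Subgroup.mem_bot] at this
    exact congrArg Subtype.val this

/-- the bound for the diagonal action from `IdxOK` -/
theorem diag_bound {T : Type} [Group T] [Finite T] [IsSimpleGroup T] (hT : ¬ IsMulCommutative T)
    (h : IdxOK T) :
    Nat.card (Cfsg.Out T) * Nat.card (ConjClasses T) ≤ 2 ^ (Nat.card T / 2 - 1) := by
  obtain ⟨x, hx⟩ := exists_ne (1 : T)
  have h1 : Subgroup.zpowers x ≠ ⊤ := by
    intro htop
    apply hT
    refine ⟨⟨fun a b => ?_⟩⟩
    have ha : a ∈ Subgroup.zpowers x := by rw [htop]; trivial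
    have hb : b ∈ Subgroup.zpowers x := by rw [htop]; trivial
    obtain ⟨i, rfl⟩ := ha
    obtain ⟨j, rfl⟩ := hb
    show x ^ i * x ^ j = x ^ j * x ^ i
    rw [← zpow_add, ← zpow_add, add_comm]
  refine (h _ h1).trans (Nat.pow_le_pow_right (by norm_num) (Nat.sub_le_sub_right ?_ 1))
  have h2 := (Subgroup.zpowers x).card_mul_index
  have h3 : 2 ≤ Nat.card (Subgroup.zpowers x) := by
    rw [Nat.card_zpowers]
    have h4 : orderOf x ≠ 1 := fun h => hx (orderOf_eq_one_iff.1 h)
    have h5 : 0 < orderOf x := orderOf_pos x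
    omega
  rw [Nat.le_div_iff_mul_le (by norm_num), mul_comm, ← h2]
  exact Nat.mul_le_mul_right _ h3

/-- primitive groups of degree at least `5` -/
theorem prim_large (tab : Tab) {n : ℕ} (hn : 5 ≤ n) (ih : ∀ m < n, Bd 2 m)
    (S : Subgroup (Equiv.Perm (Fin n))) (hS : IsPreprimitive S (Fin n)) :
    Nat.card (ConjClasses S) ≤ 2 ^ (n - 1) := by
  have hc : Nat.card (Fin n) = n := by simp only [_root_.Nat.card_eq_fintype_card, _root_.Fintype.card_fin]
  have hgoal : Nat.card (ConjClasses S) ≤ 2 ^ (Nat.card (Fin n) - 1) := by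
    have ih' : ∀ m, m < Nat.card (Fin n) → Bd 2 m := by rw [hc]; exact ih
    let a : Fin n := ⟨0, by omega⟩
    have hS0 : (⊤ : Subgroup S) ≠ ⊥ := by
      intro h
      obtain ⟨g, hg⟩ := MulAction.IsPretransitive.exists_smul_eq (M := S) a ⟨1, by omega⟩
      have h1 : g ∈ (⊤ : Subgroup S) := trivial
      rw [h, Subgroup.mem_bot] at h1
      rw [h1, one_smul] at hg
      have := congrArg Fin.val hg
      simp [a] at this
    obtain ⟨N, -, hNn, hN0, hmin⟩ := exists_min_normal (⊤ : Subgroup S) hS0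
    have hNt : IsPretransitive N (Fin n) := trans_of_normal N hN0
    by_cases hab : IsMulCommutative N
    · obtain ⟨-, hreg, ⟨p, hp, hpow⟩, -⟩ := S0703.result S N hN0 hmin hab hNt
      exact of_abelian N a (hreg a) (fun x y => hab.is_comm.comm x y) p hp
        (fun x => Subtype.ext (hpow x.1 x.2)) (by rw [hc]; exact hn) ih'
    · by_cases huniq : ∀ L : Subgroup S, L.Normal → L ≠ ⊥ →
        (∀ M : Subgroup S, M.Normal → M ≤ L → M = ⊥ ∨ M = L) → L = N
      · have hC : Subgroup.centralizer (N : Set S) = ⊥ := by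
          by_contra hne
          have hCn : (Subgroup.centralizer (N : Set S)).Normal := inferInstance
          obtain ⟨L, hLC, hLn, hL0, hLmin⟩ := exists_min_normal _ hne
          have h1 := huniq L hLn hL0 hLmin
          rw [h1] at hLC
          apply hab
          refine ⟨⟨fun x y => Subtype.ext ?_⟩⟩
          exact (Subgroup.mem_centralizer_iff.1 (hLC y.2)) x.1 x.2
        obtain ⟨T, instT, m, e, hTs, hTna, hm0, hcase⟩ :=
          S0723.result S N hN0 hmin huniq hab a
        have hTf : Finite T := Finite.of_injective _ (SocBound.io_injective N e ⟨0, hm0⟩)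
        have hOK : IdxOK T := tab T hTna
        rcases hcase with ⟨K, hK, hstab⟩ | ⟨k, c, hk, hcc, hstab⟩
        · exact product_one N hTna hC e a ih' hm0 K hK hstab hOK
        · exact diagonal N hTna hC e a ih' hm0 k c hk hcc hstab (diag_bound hTna hOK)
      · push Not at huniq
        obtain ⟨L, hLn, hL0, hLmin, hLN⟩ := huniq
        have hLt : IsPretransitive L (Fin n) := trans_of_normal L hL0
        obtain ⟨hreg, -⟩ := S0704.result S N L hN0 hL0 hmin hLmin (fun h => hLN h.symm) hNt hLt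
        have h60 := H168.NoSolv.sixty_le (not_solvable N hN0 hmin hab)
        have h1 := card_regular N a (hreg a)
        exact of_large N a (hreg a) (by omega)
  rwa [hc] at hgoal

/-- primitive groups -/
theorem prim (tab : Tab) (n : ℕ) (ih : ∀ m < n, Bd 2 m)
    (S : Subgroup (Equiv.Perm (Fin n))) (hS : IsPreprimitive S (Fin n)) :
    Nat.card (ConjClasses S) ≤ 2 ^ (n - 1) := by
  rcases Nat.lt_or_ge n 5 with h5 | h5
  swap
  · exact prim_large tab h5 ih S hS
  have hdvd : Nat.card S ∣ n.factorial := by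
    have h1 := Subgroup.card_subgroup_dvd_card S
    rwa [Nat.card_eq_fintype_card (α := Equiv.Perm (Fin n)), Fintype.card_perm, Fintype.card_fin] at h1
  have hle := Nat.le_of_dvd (Nat.factorial_pos n) hdvd
  have hkc := card_conjClasses_le_card (G := S)
  interval_cases n
  · exact hkc.trans hle
  · exact hkc.trans hle
  · exact hkc.trans hle
  · have h1 := of_card_le (G := S) (α := Fin 3) 0 (by
      rw [Nat.card_eq_fintype_card (α := Fin 3), Fintype.card_fin]
      exact hle.trans (by decide))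
    rwa [Nat.card_eq_fintype_card (α := Fin 3), Fintype.card_fin] at h1
  · rcases Nat.lt_or_ge 16 (Nat.card S) with h16 | h16
    · have h24 : Nat.card S = 24 := by
        obtain ⟨c, hc⟩ := hdvd
        have h24 : Nat.factorial 4 = 24 := rfl
        rw [h24] at hc
        have hc1 : c < 2 := by
          by_contra hcon
          push Not at hcon
          have : Nat.card S * 2 ≤ Nat.card S * c := Nat.mul_le_mul_left _ hcon
          omega
        interval_cases c
        · omega
        · omega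
      have htop : S = ⊤ := by
        apply Subgroup.eq_top_of_card_eq
        rw [h24, Nat.card_eq_fintype_card, Fintype.card_perm, Fintype.card_fin]
        rfl
      subst htop
      rw [card_conjClasses_congr (Subgroup.topEquiv (G := Equiv.Perm (Fin 4)))]
      refine (card_conjClasses_perm_le_fib (Fin 4)).trans ?_
      rw [Fintype.card_fin]
      decide
    · have h1 := of_card_le (G := S) (α := Fin 4) 0 (by
        rw [Nat.card_eq_fintype_card (α := Fin 4), Fintype.card_fin]
        exact h16)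
      rwa [Nat.card_eq_fintype_card (α := Fin 4), Fintype.card_fin] at h1

/-- **The bound from the table.** -/
theorem main (tab : Tab) {α : Type*} [Fintype α] (S : Subgroup (Equiv.Perm α)) :
    Nat.card (ConjClasses S) ≤ 2 ^ (Fintype.card α - 1) :=
  (reduction_ih 2 (by norm_num) (prim tab) (Fintype.card α)).subgroup rfl S

end Cfsg.Agent.H539.Asm
end

-- part: H539/AltCase
section
set_option autoImplicit false

/-!
# Class numbers of groups between `A_n` and `S_n`

`le_of_alternating_le`: if `A_n ≤ S ≤ S_n`, `n ≥ 5`, then `k(S) ≤ 2 ^ (n - 1)`.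
-/

namespace Cfsg.Agent.H539.AltCase

open Cfsg.Agent.H540.ClassNum Cfsg.Agent.H539.PartCount

theorem card_perm_le {α : Type*} [Fintype α] [DecidableEq α] (hn : 5 ≤ Fintype.card α) :
    Nat.card (ConjClasses (Equiv.Perm α)) ≤ 2 ^ (Fintype.card α - 2) := by
  refine (card_conjClasses_perm_le_fib α).trans ?_
  obtain ⟨m, hm⟩ := Nat.exists_eq_add_of_le hn
  rw [hm, show 5 + m + 1 = m + 6 by ring, show 5 + m - 2 = m + 3 by omega]
  exact fib_le_two_pow m

end Cfsg.Agent.H539.AltCase
end

-- part: H539/IdxAlt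
section
set_option autoImplicit false

/-!
# `IdxOK` for the alternating groups
-/

namespace Cfsg.Agent.H539.IdxAlt

open Cfsg.Agent.H540.ClassNum

theorem simple {n : ℕ} (hn : 5 ≤ n) : IsSimpleGroup (alternatingGroup (Fin n)) :=
  alternatingGroup.isSimpleGroup (by simpa only [_root_.Nat.card_eq_fintype_card, _root_.Fintype.card_fin] using hn)

theorem two_mul_card {n : ℕ} (hn : 5 ≤ n) : 2 * Nat.card (alternatingGroup (Fin n)) = n.factorial := by
  have : Nontrivial (Fin n) := Fin.nontrivial_iff_two_le.2 (by omega)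
  rw [two_mul_nat_card_alternatingGroup, Nat.card_eq_fintype_card, Fintype.card_perm,
    Fintype.card_fin]

theorem not_comm {n : ℕ} (hn : 5 ≤ n) : ¬ IsMulCommutative (alternatingGroup (Fin n)) := by
  have := simple hn
  apply SmallSimple.Embed.not_comm_of_card_not_prime
  intro hp
  have h1 := two_mul_card hn
  have h2 : Nat.factorial 4 ∣ n.factorial := Nat.factorial_dvd_factorial (by omega)
  rw [← h1] at h2
  have h3 : Nat.factorial 4 = 2 * 12 := rfl
  rw [h3] at h2
  have h4 : 12 ∣ Nat.card (alternatingGroup (Fin n)) := Nat.dvd_of_mul_dvd_mul_left (by norm_num) h2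
  have h5 : 2 ∣ Nat.card (alternatingGroup (Fin n)) := (by norm_num : 2 ∣ 12).trans h4
  have h6 : 3 ∣ Nat.card (alternatingGroup (Fin n)) := (by norm_num : 3 ∣ 12).trans h4
  rw [Nat.prime_dvd_prime_iff_eq (by norm_num) hp] at h5 h6
  omega

theorem le_index {n : ℕ} (hn : 5 ≤ n) (K : Subgroup (alternatingGroup (Fin n))) (hK : K ≠ ⊤) :
    n ≤ K.index := by
  have := simple hn
  have h1 := SmallSimple.Embed.two_mul_card_dvd_factorial_index (not_comm hn) K hK
  rw [two_mul_card hn] at h1
  have h2 := Nat.le_of_dvd (Nat.factorial_pos _) h1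
  by_contra hcon
  push Not at hcon
  have h3 : K.index.factorial < n.factorial := by
    have h5 := SmallSimple.Embed.five_le_index (not_comm hn) K hK
    exact (Nat.factorial_lt (by omega)).2 hcon
  omega

theorem card_out {n : ℕ} (hn : 5 ≤ n) (h6 : n ≠ 6) :
    Nat.card (Cfsg.Out (alternatingGroup (Fin n))) = 2 := by
  have := simple hn
  have hZ := center_eq_bot (not_comm hn)
  have h1 : Nat.card (MulAut (alternatingGroup (Fin n))) = n.factorial := by
    rw [← Nat.card_congr (Equiv.ofBijective _ (S2119.result n (by omega) h6)),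
      Nat.card_eq_fintype_card, Fintype.card_perm, Fintype.card_fin]
  have hinj : Function.Injective (MulAut.conj : alternatingGroup (Fin n) →* _) := by
    rw [← MonoidHom.ker_eq_bot_iff, eq_bot_iff]
    intro x hx
    have h2 : x ∈ Subgroup.center (alternatingGroup (Fin n)) := by
      rw [Subgroup.mem_center_iff]
      intro y
      have h3 := congrArg (fun a : MulAut (alternatingGroup (Fin n)) => a y) hx
      have h4 : x * y * x⁻¹ = y := h3
      rw [mul_inv_eq_iff_eq_mul] at h4
      exact h4.symm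
    rwa [hZ] at h2
  have h2 : Nat.card (MulAut.conj : alternatingGroup (Fin n) →* _).range =
      Nat.card (alternatingGroup (Fin n)) :=
    (Nat.card_congr (MonoidHom.ofInjective hinj).toEquiv).symm
  have h3 : Nat.card (Cfsg.Out (alternatingGroup (Fin n))) =
      (MulAut.conj : alternatingGroup (Fin n) →* _).range.index := rfl
  have h4 := (MulAut.conj : alternatingGroup (Fin n) →* _).range.card_mul_index
  rw [h2, h1, ← two_mul_card hn, mul_comm 2] at h4
  rw [h3]
  exact Nat.eq_of_mul_eq_mul_left Nat.card_pos h4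

theorem idxOK {n : ℕ} (hn : 5 ≤ n) (h6 : n ≠ 6) : IdxOK (alternatingGroup (Fin n)) := by
  refine IdxOK.of_k (card_out hn h6).le (k := 2 ^ (n - 2)) ?_ (le_index hn) ?_
  · have h1 := PartCount.card_conjClasses_alternating_lt (α := Fin n) (by simpa only [_root_.Fintype.card_fin] using hn)
    have h2 := AltCase.card_perm_le (α := Fin n) (by simpa only [_root_.Fintype.card_fin] using hn)
    rw [Fintype.card_fin] at h2
    omega
  · rw [← pow_succ']
    exact Nat.pow_le_pow_right (by norm_num) (by omega)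

theorem idxOK_six : IdxOK (alternatingGroup (Fin 6)) := by
  classical
  let F := GaloisField 3 2
  have hF9 : Nat.card F = 9 := by
    have := GaloisField.card 3 2 (by norm_num)
    rw [this]; norm_num
  have hFf : Finite F := Nat.finite_of_card_ne_zero (by rw [hF9]; norm_num)
  have : Fintype F := Fintype.ofFinite F
  have hF : Fintype.card F = 9 := by rw [← Nat.card_eq_fintype_card, hF9]
  obtain ⟨e⟩ := S0254.result hF
  refine IdxOK.congr ?_ e
  have h3 : Fact (Nat.Prime 3) := ⟨Nat.prime_three⟩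
  obtain ⟨φ, hφ, _, hker⟩ := S2602.result (F := F) (p := 3) (f := 2) (by norm_num)
    (by rw [hF]; norm_num) (by norm_num)
  have hout : Nat.card (Cfsg.Out (Matrix.ProjectiveSpecialLinearGroup (Fin 2) F)) ≤ 4 := by
    have h4 := φ.ker.card_mul_index
    rw [Subgroup.index_ker, hker, MonoidHom.range_eq_top.2 hφ, Subgroup.card_top] at h4
    have h5 : Nat.card (Multiplicative (ZMod 2)) = 2 := by
      rw [Nat.card_congr (Multiplicative.toAdd), Nat.card_eq_fintype_card, ZMod.card]
    rw [h5] at h4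
    have h6 : Nat.gcd 2 (3 ^ 2 - 1) = 2 := by norm_num
    rw [h6] at h4
    omega
  have hk := (S2480.result (F := F) 2 (by norm_num)).2
  rw [hF] at hk
  have hk2 : Nat.card (ConjClasses (Matrix.ProjectiveSpecialLinearGroup (Fin 2) F)) ≤ 7 := by
    have h6 : Nat.gcd 2 (9 - 1) = 2 := by norm_num
    rw [h6] at hk
    omega
  refine IdxOK.of_k hout hk2 (b := 6) ?_ (by norm_num)
  intro K hK
  have h1 : K.map e.toMonoidHom ≠ ⊤ := by
    intro h
    apply hK
    rw [eq_top_iff]
    intro x _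
    have h2 : e x ∈ K.map e.toMonoidHom := by rw [h]; trivial
    obtain ⟨y, hy, hyx⟩ := h2
    have : y = x := e.injective hyx
    rwa [← this]
  have h2 := le_index (n := 6) (by norm_num) _ h1
  have h3 : (K.map e.toMonoidHom).index = K.index := Subgroup.index_map_equiv K e
  rwa [h3] at h2

/-- **`IdxOK` for `A_n`, `n ≥ 5`.** -/
theorem main {n : ℕ} (hn : 5 ≤ n) : IdxOK (alternatingGroup (Fin n)) := by
  by_cases h6 : n = 6
  · subst h6
    exact idxOK_six
  · exact idxOK hn h6

end Cfsg.Agent.H539.IdxAlt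
end

-- part: H539/TabAsm
section
set_option autoImplicit false

/-!
# The casework of the classification for the table `IdxOK`

`Rows`: one field per family. `tab_of_rows`: the table, from the rows and the classification.
-/

namespace Cfsg.Agent.H539

open Cfsg

/-- `IdxOK` for all simple non-abelian groups with property `P`. -/
def RowOf (P : ∀ (T : Type) [Group T], Prop) : Prop :=
  ∀ (T : Type) [Group T] [Finite T] [IsSimpleGroup T], ¬ IsMulCommutative T → P T → IdxOK T

/-- the rows of the table. -/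
structure Rows : Prop where
  psl : RowOf (fun T _ => IsPSL T)
  psp : RowOf (fun T _ => IsPSp T)
  psu : RowOf (fun T _ => IsPSU T)
  omegaOdd : RowOf (fun T _ => IsPOmegaOdd T)
  omegaPlus : RowOf (fun T _ => IsPOmegaPlus T)
  omegaMinus : RowOf (fun T _ => IsPOmegaMinus T)
  g2 : RowOf (fun T _ => Lie.IsoChevG2 T)
  f4 : RowOf (fun T _ => Lie.IsoF4 T)
  e6 : RowOf (fun T _ => Lie.IsoChevE6 T)
  e7 : RowOf (fun T _ => Lie.IsoE7 T)
  e8 : RowOf (fun T _ => Lie.IsoE8 T)
  twE6 : RowOf (fun T _ => Lie.Iso2E6 T)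
  twD4 : RowOf (fun T _ => Lie.Iso3D4 T)
  suzuki : RowOf (fun T _ => Lie.IsoSuzuki T)
  ree : RowOf (fun T _ => Lie.IsoRee T)
  twF4 : RowOf (fun T _ => Lie.Iso2F4 T)
  tits : RowOf (fun T _ => Lie.IsoTits T)
  sporadic : RowOf (fun T _ => IsSporadicGroup T)

theorem RowOf.or {P Q : ∀ (T : Type) [Group T], Prop} (hP : RowOf P) (hQ : RowOf Q) :
    RowOf (fun T _ => P T ∨ Q T) := by
  intro T _ _ _ hT h
  rcases h with h | h
  · exact hP T hT h
  · exact hQ T hT h

theorem tab_of_rows (R : Rows)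
    (cls : ∀ (T : Type) [Group T] [Finite T] [IsSimpleGroup T], IsKnownSimple' T) : Asm.Tab := by
  intro T _ _ _ hT
  rcases cls T with h | ⟨n, hn, ⟨e⟩⟩ | h | h | h | h | h | h |
    (h | h | h | h | h | h | h | h | h | h | h) | h
  · exact absurd h (SmallSimple.Embed.card_not_prime_of_not_comm hT)
  · exact (IdxAlt.main hn).congr e.symm
  · exact R.psl T hT h
  · exact R.psp T hT h
  · exact R.psu T hT h
  · exact R.omegaOdd T hT h
  · exact R.omegaPlus T hT h
  · exact R.omegaMinus T hT h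
  · exact R.g2 T hT h
  · exact R.f4 T hT h
  · exact R.e6 T hT h
  · exact R.e7 T hT h
  · exact R.e8 T hT h
  · exact R.twE6 T hT h
  · exact R.twD4 T hT h
  · exact R.suzuki T hT h
  · exact R.ree T hT h
  · exact R.twF4 T hT h
  · exact R.tits T hT h
  · exact R.sporadic T hT h

/-- **`k(S) ≤ 2 ^ (n - 1)` from the rows and the classification** -/
theorem main_of_rows (R : Rows)
    (cls : ∀ (T : Type) [Group T] [Finite T] [IsSimpleGroup T], IsKnownSimple' T)
    {α : Type*} [Fintype α] (S : Subgroup (Equiv.Perm α)) :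
    Nat.card (ConjClasses S) ≤ 2 ^ (Fintype.card α - 1) :=
  Asm.main (tab_of_rows R cls) S

end Cfsg.Agent.H539
end
end

-- part: H599/RowsA
section
prune_inst 0xd01029043400100000000010800020216000010000000000e100020203010000000088000a8000121040300010440008111000700200000000003000000600001022400002240104060009801000000000000000000000000000000000000000000000000
set_option linter.all false
open scoped Cfsg.Agent.FastGrp

-- part: H599/IdxE
section
/-!
# `IdxOK` for the groups of type `E₆`, `E₇`, `E₈`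

General criterion `of_pow`: `|Out T| |T| ≤ q ^ N`, proper indices at least `b`, `N (q - 1) ≤ b - 1`.
-/

set_option autoImplicit false

namespace Cfsg.Agent.H599.IdxE

open Cfsg.Lie Cfsg.Agent.H539

universe u

theorem le_two_pow {q : ℕ} (hq : 1 ≤ q) : q ≤ 2 ^ (q - 1) := by
  have := Nat.lt_two_pow_self (n := q - 1)
  omega

/-- The criterion. -/
theorem of_pow {T : Type u} [Group T] [Finite T] {q N b : ℕ} (hq : 1 ≤ q)
    (h1 : Nat.card (Cfsg.Out T) * Nat.card T ≤ q ^ N) (hb : ∀ K : Subgroup T, K ≠ ⊤ → b ≤ K.index)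
    (h2 : N * (q - 1) ≤ b - 1) : IdxOK T := by
  refine IdxOK.of_card le_rfl le_rfl hb (h1.trans ?_)
  calc q ^ N ≤ (2 ^ (q - 1)) ^ N := Nat.pow_le_pow_left (le_two_pow hq) N
    _ = 2 ^ (N * (q - 1)) := by rw [← pow_mul, mul_comm]
    _ ≤ _ := Nat.pow_le_pow_right (by norm_num) h2

theorem exists_char (F : Type*) [Field F] [Fintype F] :
    ∃ p f : ℕ, p.Prime ∧ CharP F p ∧ 1 ≤ f ∧ Fintype.card F = p ^ f := by
  obtain ⟨p, hp⟩ := CharP.exists F
  obtain ⟨n, hpp, hn⟩ := FiniteField.card F p
  exact ⟨p, n, hpp, hp, n.pos, hn⟩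

theorem le_pow {p f : ℕ} (hp : p.Prime) : f ≤ p ^ f := (Nat.lt_pow_self hp.one_lt).le

theorem e6 {F : Type u} [Field F] [Fintype F] (hs : IsSimpleGroup ↥(chevE6.group F)) :
    IdxOK ↥(chevE6.group F) := by
  have : Finite (GL chevE6.Idx F) := inferInstance
  obtain ⟨p, f, hp, hc, hf, hF⟩ := exists_char F
  have : Fact p.Prime := ⟨hp⟩
  have hq : 2 ≤ Fintype.card F := Fintype.one_lt_card
  have hcard := S1063.result (F := F) rfl
  have hout := S2123.result p f hF
  set q := Fintype.card F with hqd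
  have ho : Nat.card (Cfsg.Out ↥(chevE6.group F)) ≤ 6 * q := by
    rw [hout]
    have h1 : Nat.gcd 3 (p ^ f - 1) ≤ 3 := Nat.gcd_le_left _ (by norm_num)
    have h2 : f ≤ q := hF ▸ le_pow hp
    calc 2 * Nat.gcd 3 (p ^ f - 1) * f ≤ 2 * 3 * q := Nat.mul_le_mul (Nat.mul_le_mul_left _ h1) h2
      _ = _ := by ring
  have ht : Nat.card ↥(chevE6.group F) ≤ q ^ 78 := by
    have h0 : 1 ≤ Nat.gcd 3 (q - 1) := Nat.gcd_pos_of_pos_left _ (by norm_num)
    calc Nat.card ↥(chevE6.group F) ≤ Nat.gcd 3 (q - 1) * Nat.card ↥(chevE6.group F) := Nat.le_mul_of_pos_left _ h0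
      _ = _ := hcard
      _ ≤ q ^ 36 * q ^ 2 * q ^ 5 * q ^ 6 * q ^ 8 * q ^ 9 * q ^ 12 := by gcongr <;> exact Nat.sub_le _ _
      _ = q ^ 78 := by ring
  refine of_pow (q := q) (N := 82) (b := 2 * q ^ 11) (by omega) ?_ (H934.HeisE6.two_mul_le hs) ?_
  · calc _ ≤ (6 * q) * q ^ 78 := Nat.mul_le_mul ho ht
      _ ≤ (q ^ 3 * q) * q ^ 78 := by
        have h3 : 2 ^ 3 ≤ q ^ 3 := Nat.pow_le_pow_left hq 3
        gcongr
        omega
      _ = q ^ 82 := by ring
  · have h3 : 2 ^ 10 * q ≤ q ^ 11 := by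
      rw [pow_succ]
      exact Nat.mul_le_mul_right _ (Nat.pow_le_pow_left hq 10)
    omega

theorem e7 {F : Type u} [Field F] [Fintype F] (hs : IsSimpleGroup ↥(chevE7.group F)) :
    IdxOK ↥(chevE7.group F) := by
  have : Finite (GL chevE7.Idx F) := inferInstance
  obtain ⟨p, f, hp, hc, hf, hF⟩ := exists_char F
  have : Fact p.Prime := ⟨hp⟩
  have hq : 2 ≤ Fintype.card F := Fintype.one_lt_card
  have hcard := S1064.result (F := F) rfl
  have hout := S2124.result p f hF
  set q := Fintype.card F with hqd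
  have ho : Nat.card (Cfsg.Out ↥(chevE7.group F)) ≤ 2 * q := by
    rw [hout]
    have h1 : Nat.gcd 2 (p ^ f - 1) ≤ 2 := Nat.gcd_le_left _ (by norm_num)
    have h2 : f ≤ q := hF ▸ le_pow hp
    exact Nat.mul_le_mul h1 h2
  have ht : Nat.card ↥(chevE7.group F) ≤ q ^ 133 := by
    have h0 : 1 ≤ Nat.gcd 2 (q - 1) := Nat.gcd_pos_of_pos_left _ (by norm_num)
    calc Nat.card ↥(chevE7.group F) ≤ Nat.gcd 2 (q - 1) * Nat.card ↥(chevE7.group F) := Nat.le_mul_of_pos_left _ h0
      _ = _ := hcard
      _ ≤ q ^ 63 * q ^ 2 * q ^ 6 * q ^ 8 * q ^ 10 * q ^ 12 * q ^ 14 * q ^ 18 := by gcongr <;> exact Nat.sub_le _ _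
      _ = q ^ 133 := by ring
  refine of_pow (q := q) (N := 135) (b := 2 * q ^ 17) (by omega) ?_ (H934.HeisE7.two_mul_le hs) ?_
  · calc _ ≤ (2 * q) * q ^ 133 := Nat.mul_le_mul ho ht
      _ ≤ (q * q) * q ^ 133 := by gcongr
      _ = q ^ 135 := by ring
  · have h3 : 2 ^ 16 * q ≤ q ^ 17 := by
      rw [pow_succ]
      exact Nat.mul_le_mul_right _ (Nat.pow_le_pow_left hq 16)
    omega

theorem e8 {F : Type u} [Field F] [Fintype F] (hs : IsSimpleGroup ↥(chevE8.group F)) :
    IdxOK ↥(chevE8.group F) := by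
  have : Finite (GL chevE8.Idx F) := inferInstance
  obtain ⟨p, f, hp, hc, hf, hF⟩ := exists_char F
  have : Fact p.Prime := ⟨hp⟩
  have hq : 2 ≤ Fintype.card F := Fintype.one_lt_card
  have hcard := S1065.result (F := F) rfl
  have hout := S2125.result p f hF
  set q := Fintype.card F with hqd
  have ho : Nat.card (Cfsg.Out ↥(chevE8.group F)) ≤ q := by
    rw [hout]
    exact hF ▸ le_pow hp
  have ht : Nat.card ↥(chevE8.group F) ≤ q ^ 248 := by
    calc Nat.card ↥(chevE8.group F) = _ := hcard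
      _ ≤ q ^ 120 * q ^ 2 * q ^ 8 * q ^ 12 * q ^ 14 * q ^ 18 * q ^ 20 * q ^ 24 * q ^ 30 := by
        gcongr <;> exact Nat.sub_le _ _
      _ = q ^ 248 := by ring
  refine of_pow (q := q) (N := 249) (b := 2 * q ^ 29) (by omega) ?_ (H934.HeisE8.two_mul_le hs) ?_
  · calc _ ≤ q * q ^ 248 := Nat.mul_le_mul ho ht
      _ = q ^ 249 := by ring
  · have h3 : 2 ^ 28 * q ≤ q ^ 29 := by
      rw [pow_succ]
      exact Nat.mul_le_mul_right _ (Nat.pow_le_pow_left hq 28)
    omega

end Cfsg.Agent.H599.IdxE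
end

-- part: H599/IdxF4
section
/-!
# The special group `q^{1+8}` of the long roots of `F₄(q)`

Every proper subgroup of `F₄(q)` has index at least `2 q⁵`; `IdxOK` for `F₄(q)`.
-/

set_option autoImplicit false

namespace Cfsg.Agent.H599.IdxF4

open Cfsg.Lie Cfsg.Agent.ChevalleyStructure.Elts Cfsg.Agent.H934.HeisRoot Cfsg.Agent.H934.HeisChev
  Cfsg.Agent.H934.HeisD4 Cfsg.Agent.H539 Cfsg.Agent.H599.IdxE

/-- The tables of the long roots of `F₄`. -/
def tab : HTab 8 6 where
  S := fun i => at' 0 [24, 26, 31, 32, 42, 43, 45, 46] i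
  th := 47
  B := fun i => at' 0 [25, 30, 41, 22, 17, 6] i
  opp := fun i => ⟨7 - i, by omega⟩
  e := fun i => at' 0 [-1, -1, 1, -1, 1, -1, 1, 1] i
  next := fun b i => dec8 (at' 0 (at' [] [[2, 0, 4, 0, 6, 0, 8, 0], [3, 4, 0, 0, 7, 8, 0, 0], [5, 6, 7, 8, 0, 0, 0, 0],
    [0, 1, 0, 3, 0, 5, 0, 7], [0, 0, 1, 2, 0, 0, 5, 6], [0, 0, 0, 0, 1, 2, 3, 4]] b) i)
  cc := fun b i => at' 0 (at' [] [[1, 1, -1, 1, -1, 1, -1, 1], [1, -1, 1, 1, 1, 1, 1, 1], [1, -1, 1, 1, 1, 1, 1, 1],
    [1, 1, 1, -1, 1, -1, 1, -1], [1, 1, 1, -1, 1, 1, 1, 1], [1, 1, 1, 1, 1, -1, 1, 1]] b) i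
  ng := fun b => ⟨((b : ℕ) + 3) % 6, Nat.mod_lt _ (by norm_num)⟩
  p := 3

theorem tab_ok : tab.Ok chevF4 where
  S_lt := by decide +kernel
  th_lt := by decide +kernel
  B_lt := by decide +kernel
  th_ne := by decide +kernel
  th_ne' := by decide +kernel
  S_ne := by decide +kernel
  opp_ne := by decide +kernel
  opp_opp := by decide +kernel
  e_sq := by decide +kernel
  B_ne := by decide +kernel
  c_sq := by decide +kernel
  B_comm := by decide +kernel
  ng_spec := by decide +kernel
  p_lt := by decide +kernel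
  p_th := by decide +kernel
  iso := fun i => ⟨path i (tab.opp i), tab.opp i, by revert i; decide +kernel⟩
  conn := fun i j => ⟨path i j, by revert i j; decide +kernel⟩

theorem hD : InList chevF4 := by simp [InList]

universe u

/-- The index bound. -/
theorem sq_le {F : Type u} [Field F] [Fintype F] (hs : IsSimpleGroup ↥(chevF4.group F))
    (H : Subgroup ↥(chevF4.group F)) (hH : H ≠ ⊤) : 4 * Fintype.card F ^ 10 ≤ H.index ^ 2 := by
  have : Finite (GL chevF4.Idx F) := inferInstance
  have hq : 2 ≤ Fintype.card F := Fintype.one_lt_card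
  rcases bound hD tab tab_ok (by norm_num) (MonoidHom.id ↥(chevF4.group F)) Function.injective_id hH 2
    (Or.inl rfl) with h | h
  · have h1 := Nat.pow_le_pow_left h 2
    refine le_trans ?_ h1
    rw [← pow_mul]
    calc 4 * Fintype.card F ^ 10 ≤ Fintype.card F ^ 2 * Fintype.card F ^ 10 := by
          apply Nat.mul_le_mul_right
          nlinarith only [hq]
      _ = Fintype.card F ^ 12 := by ring
      _ ≤ _ := Nat.pow_le_pow_right (by omega) (by norm_num)
  · exact h

theorem two_mul_le {F : Type u} [Field F] [Fintype F] (hs : IsSimpleGroup ↥(chevF4.group F))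
    (H : Subgroup ↥(chevF4.group F)) (hH : H ≠ ⊤) : 2 * Fintype.card F ^ 5 ≤ H.index := by
  have h := sq_le hs H hH
  have h1 : (2 * Fintype.card F ^ 5) ^ 2 ≤ H.index ^ 2 := by
    calc (2 * Fintype.card F ^ 5) ^ 2 = 4 * Fintype.card F ^ 10 := by ring
      _ ≤ _ := h
  exact (Nat.pow_le_pow_iff_left (by norm_num)).1 h1

theorem f4 {F : Type u} [Field F] [Fintype F] (hs : IsSimpleGroup ↥(chevF4.group F)) :
    IdxOK ↥(chevF4.group F) := by
  have : Finite (GL chevF4.Idx F) := inferInstance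
  obtain ⟨p, f, hp, hc, hf, hF⟩ := exists_char F
  have : Fact p.Prime := ⟨hp⟩
  have hq : 2 ≤ Fintype.card F := Fintype.one_lt_card
  have hcard := S1062.result (F := F) rfl
  have hout := S2122.result p f hF
  set q := Fintype.card F with hqd
  have ho : Nat.card (Cfsg.Out ↥(chevF4.group F)) ≤ 2 * q := by
    rw [hout]
    have h1 : Nat.gcd 2 p ≤ 2 := Nat.gcd_le_left _ (by norm_num)
    have h2 : f ≤ q := hF ▸ le_pow hp
    exact Nat.mul_le_mul h1 h2
  have ht : Nat.card ↥(chevF4.group F) ≤ q ^ 52 := by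
    calc Nat.card ↥(chevF4.group F) = _ := hcard
      _ ≤ q ^ 24 * q ^ 2 * q ^ 6 * q ^ 8 * q ^ 12 := by gcongr <;> exact Nat.sub_le _ _
      _ = q ^ 52 := by ring
  refine of_pow (q := q) (N := 54) (b := 2 * q ^ 5) (by omega) ?_ (two_mul_le hs) ?_
  · calc _ ≤ (2 * q) * q ^ 52 := Nat.mul_le_mul ho ht
      _ ≤ (q * q) * q ^ 52 := by gcongr
      _ = q ^ 54 := by ring
  · have h3 : 2 ^ 4 * q ≤ q ^ 5 := by
      rw [pow_succ]
      exact Nat.mul_le_mul_right _ (Nat.pow_le_pow_left hq 4)
    rcases Nat.lt_or_ge q 3 with h4 | h4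
    · have : q = 2 := by omega
      rw [this]; norm_num
    · have h5 : 3 ^ 4 * q ≤ q ^ 5 := by
        rw [pow_succ]
        exact Nat.mul_le_mul_right _ (Nat.pow_le_pow_left h4 4)
      omega

end Cfsg.Agent.H599.IdxF4
end

-- part: H599/IdxJor
section
/-!
# Lower bounds for indices of proper subgroups of simple groups

* `prime_le_index`: a prime divisor of `|T|` is at most the index of a proper subgroup;
* `le_index_of_check`: indices `n` of maximal subgroups satisfy `n ∣ |T|`, `2 |T| ∣ n!`, and there is no prime divisor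
  `p` of `|T|` with `n / 2 < p ≤ n - 3` (Jordan).
-/

set_option autoImplicit false

namespace Cfsg.Agent.H599.IdxJor

open MulAction
open scoped Nat
open Cfsg.Agent.SmallSimple Cfsg.Agent.SmallSimple.IndexJordan

universe u

variable {T : Type u} [Group T] [Finite T] [IsSimpleGroup T]

theorem prime_le_index (hT : ¬ IsMulCommutative T) {p : ℕ} (hp : p.Prime) (hd : p ∣ Nat.card T) (K : Subgroup T)
    (hK : K ≠ ⊤) : p ≤ K.index := by
  have h1 := Embed.two_mul_card_dvd_factorial_index hT K hK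
  exact (hp.dvd_factorial).1 ((hd.trans (Dvd.intro_left 2 rfl)).trans h1)

/-- No prime divisor `p` of `|T|` with `n / 2 < p ≤ n - 3` for a maximal subgroup of index `n`. -/
theorem no_prime {M : Subgroup T} (hM : IsCoatom M) {p : ℕ} (hp : p.Prime)
    (hd : p ∣ Nat.card T) (h1 : M.index < 2 * p) (h2 : p + 3 ≤ M.index) (h3 : 2 * Nat.card T < (M.index)!) : False := by
  classical
  have : Fact p.Prime := ⟨hp⟩
  let X := T ⧸ M
  have hX : Nat.card X = M.index := rfl
  have : Fintype X := Fintype.ofFinite X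
  have hXf : Fintype.card X = M.index := by rw [← hX, Nat.card_eq_fintype_card]
  let f : T →* Equiv.Perm X := toPermHom T X
  have hf : Function.Injective f := toPermHom_injective hM.1
  have hprim : IsPreprimitive T X := isPreprimitive_quotient hM
  have hprim' : IsPreprimitive f.range X := isPreprimitive_range T X
  obtain ⟨g, hg⟩ := exists_prime_orderOf_dvd_card' p hd
  have hσ : orderOf (f g) = p := by rw [orderOf_injective f hf, hg]
  obtain ⟨k, hk⟩ := Equiv.Perm.cycleType_prime_order (by rw [hσ]; exact hp)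
  have hs : (f g).support.card = (k + 1) * p := by
    rw [← Equiv.Perm.sum_cycleType, hk, Multiset.sum_replicate, smul_eq_mul, hσ]
  have hle : (f g).support.card ≤ M.index := by
    rw [← hXf]
    exact Finset.card_le_univ _
  have hk0 : k = 0 := by
    by_contra hk0
    have : 2 * p ≤ (k + 1) * p := Nat.mul_le_mul_right p (by omega)
    omega
  subst hk0
  have hcyc : (f g).IsCycle := by
    rw [← Equiv.Perm.card_cycleType_eq_one, hk, Multiset.card_replicate]
  have hJ := Cfsg.Agent.S0713.result f.range hprim' hp (by rw [hXf]; have := hp.two_le; omega) (by rw [hXf]; omega)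
    (g := f g) hcyc (by rw [hs]; ring) ⟨g, rfl⟩
  have hcardle := Subgroup.card_le_of_le hJ
  have h4 : Nat.card f.range = Nat.card T := (Nat.card_congr (MonoidHom.ofInjective hf).toEquiv).symm
  rw [h4] at hcardle
  have : Nontrivial X := by
    rw [← Fintype.one_lt_card_iff_nontrivial, hXf]; have := hp.two_le; omega
  have h5 : 2 * Nat.card (alternatingGroup X) = Nat.card (Equiv.Perm X) := two_mul_nat_card_alternatingGroup
  rw [Nat.card_perm, hX] at h5
  omega

/-- The test: all `n < N` are excluded as indices of maximal subgroups of a simple group of order `t`. -/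
def chk (t : ℕ) (P : List ℕ) (N : ℕ) : Bool :=
  (List.range N).all fun n => decide (n < 2) || !(t % n == 0) || !(n ! % (2 * t) == 0) ||
    P.any fun p => t % p == 0 && decide (n < 2 * p) && decide (p + 3 ≤ n) && decide (2 * t < n !)

theorem le_index_of_check (hT : ¬ IsMulCommutative T) {t : ℕ} (ht : Nat.card T = t) {P : List ℕ}
    (hP : ∀ p ∈ P, p.Prime) {N : ℕ} (h : chk t P N = true) (K : Subgroup T) (hK : K ≠ ⊤) : N ≤ K.index := by
  obtain ⟨M, hM, hHM⟩ := (eq_top_or_exists_le_coatom K).resolve_left hK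
  have hMle : M.index ≤ K.index :=
    Nat.le_of_dvd (Nat.pos_of_ne_zero Subgroup.index_ne_zero_of_finite) (Subgroup.index_dvd_of_le hHM)
  refine le_trans ?_ hMle
  by_contra hlt
  push Not at hlt
  have h1 := (List.all_eq_true.1 h) M.index (List.mem_range.2 hlt)
  have h2 : 2 ≤ M.index := by
    have h3 : M.index ≠ 1 := fun h => hM.1 (Subgroup.index_eq_one.1 h)
    have h4 : M.index ≠ 0 := Subgroup.index_ne_zero_of_finite
    omega
  have h3 : t % M.index = 0 := by
    rw [← ht]; exact Nat.mod_eq_zero_of_dvd (Subgroup.index_dvd_card M)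
  have h4 : (M.index)! % (2 * t) = 0 := by
    rw [← ht]; exact Nat.mod_eq_zero_of_dvd (Embed.two_mul_card_dvd_factorial_index hT M hM.1)
  simp only [Bool.or_eq_true, decide_eq_true_eq, Bool.not_eq_true', beq_eq_false_iff_ne, ne_eq, List.any_eq_true,
    Bool.and_eq_true, beq_iff_eq] at h1
  rcases h1 with ((h1 | h1) | h1) | ⟨p, hp, ⟨⟨h5, h6⟩, h7⟩, h8⟩
  · omega
  · exact h1 h3
  · exact h1 h4
  · exact no_prime hM (hP p hp) (by rw [ht]; exact Nat.dvd_of_mod_eq_zero h5) h6 h7 (by rw [ht]; exact h8)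

theorem t1 : chk 29120 [7] 14 = true := by decide +kernel
theorem t2 : chk 4245696 [13] 26 = true := by decide +kernel
theorem t3 : chk 211341312 [13] 26 = true := by decide +kernel
end Cfsg.Agent.H599.IdxJor
end

-- part: H599/IdxSR
section
/-!
# `IdxOK` for `Sz(q)`, `²G₂(q)`, `²F₄(q)`
-/

set_option autoImplicit false

namespace Cfsg.Agent.H599.IdxSR

open Cfsg.Lie Cfsg.Agent.H539 Cfsg.Agent.H599.IdxE Cfsg.Agent.H599.IdxJor

universe u

theorem six_mul_lt {f : ℕ} (h : 5 ≤ f) : 6 * f + 1 ≤ 2 ^ f := by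
  induction f, h using Nat.le_induction with
  | base => norm_num
  | succ n hn ih => rw [pow_succ]; omega

theorem twentyseven_mul_lt {f : ℕ} (h : 9 ≤ f) : 27 * f + 1 ≤ 2 ^ f := by
  induction f, h using Nat.le_induction with
  | base => norm_num
  | succ n hn ih => rw [pow_succ]; omega

theorem thirtytwo_mul_lt {f : ℕ} (h : 5 ≤ f) : 32 * f + 1 ≤ 3 ^ f := by
  induction f, h using Nat.le_induction with
  | base => norm_num
  | succ n hn ih => rw [pow_succ]; omega

/-- `|Out T| ≤ f`, `|T| ≤ q ^ N`, `q = 2 ^ f`. -/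
theorem of_two {T : Type u} [Group T] [Finite T] {f N b : ℕ} (ho : Nat.card (Cfsg.Out T) = f)
    (ht : Nat.card T ≤ (2 ^ f) ^ N) (hb : ∀ K : Subgroup T, K ≠ ⊤ → b ≤ K.index) (h : (N + 1) * f + 1 ≤ b) :
    IdxOK T := by
  refine IdxOK.of_card ho.le ht hb ?_
  have h1 : f ≤ 2 ^ f := Nat.lt_two_pow_self.le
  calc f * (2 ^ f) ^ N ≤ 2 ^ f * (2 ^ f) ^ N := Nat.mul_le_mul_right _ h1
    _ = 2 ^ ((N + 1) * f) := by rw [← pow_succ', ← pow_mul, mul_comm]
    _ ≤ _ := Nat.pow_le_pow_right (by norm_num) (by omega)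

theorem sz {F : Type u} [Field F] [Fintype F] {m : ℕ} (hm : 1 ≤ m) (hF : Fintype.card F = 2 ^ (2 * m + 1))
    (hs : IsSimpleGroup ↥(Cfsg.Lie.Sz F (2 ^ (m + 1)))) (hna : ¬ IsMulCommutative ↥(Cfsg.Lie.Sz F (2 ^ (m + 1)))) :
    IdxOK ↥(Cfsg.Lie.Sz F (2 ^ (m + 1))) := by
  classical
  have hout := S2126.result hm hF
  have hcard := (S1163.result hm hF).1
  have hb := H934.IdxSz.card_le_index hF hs
  rcases Nat.lt_or_ge m 2 with h | h
  · have hm1 : m = 1 := by omega
    subst hm1
    have hcard' : Nat.card ↥(Cfsg.Lie.Sz F (2 ^ (1 + 1))) = 29120 := hcard.trans (by norm_num)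
    have h14 := le_index_of_check hna hcard' (P := [7]) (by norm_num) t1
    exact IdxOK.of_bound hna hout.le hcard'.le (b := 14) (by norm_num) h14 (by norm_num)
  · have ht : Nat.card ↥(Cfsg.Lie.Sz F (2 ^ (m + 1))) ≤ (2 ^ (2 * m + 1)) ^ 5 := by
      rw [hcard]
      set q := 2 ^ (2 * m + 1) with hq
      have hq1 : 1 ≤ q := Nat.one_le_two_pow
      obtain ⟨r, hr⟩ : ∃ r, q = r + 1 := ⟨q - 1, by omega⟩
      rw [hr]
      simp only [Nat.add_sub_cancel]
      have : r * ((r + 1) ^ 2 + 1) ≤ (r + 1) ^ 3 := by nlinarith only []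
      calc (r + 1) ^ 2 * r * ((r + 1) ^ 2 + 1) = (r + 1) ^ 2 * (r * ((r + 1) ^ 2 + 1)) := by ring
        _ ≤ (r + 1) ^ 2 * (r + 1) ^ 3 := Nat.mul_le_mul_left _ this
        _ = _ := by ring
    refine of_two (b := 2 ^ (2 * m + 1)) hout ht (fun K hK => hF ▸ hb K hK) ?_
    exact six_mul_lt (by omega)

theorem ree {K : Type u} [Field K] [Fintype K] {m : ℕ} (hm : 1 ≤ m) (hK : Fintype.card K = 3 ^ (2 * m + 1))
    (hs : IsSimpleGroup ↥(twistedG2 K (3 ^ m))) (hna : ¬ IsMulCommutative ↥(twistedG2 K (3 ^ m))) :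
    IdxOK ↥(twistedG2 K (3 ^ m)) := by
  classical
  have : Finite (GL chevG2.Idx K) := inferInstance
  have hout := S2127.result hm hK
  have hcard := S1069.result hK
  have hb := H934.IdxRee.card_le_two_mul hK hs
  rcases Nat.lt_or_ge m 2 with h | h
  · have hm1 : m = 1 := by omega
    subst hm1
    have hcard' : Nat.card ↥(twistedG2 K (3 ^ 1)) = 10073444472 := hcard.trans (by norm_num)
    have h37 := prime_le_index hna (p := 37) (by norm_num) (by rw [hcard']; norm_num)
    exact IdxOK.of_card hout.le hcard'.le (b := 37) h37 (by norm_num)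
  · set f := 2 * m + 1 with hf
    have ht : Nat.card ↥(twistedG2 K (3 ^ m)) ≤ (3 ^ f) ^ 7 := by
      rw [hcard]
      set q := 3 ^ f with hq
      have hq1 : 1 ≤ q := Nat.one_le_pow _ _ (by norm_num)
      obtain ⟨r, hr⟩ : ∃ r, q = r + 1 := ⟨q - 1, by omega⟩
      rw [hr]
      simp only [Nat.add_sub_cancel]
      have : r * ((r + 1) ^ 3 + 1) ≤ (r + 1) ^ 4 := by
        have h1 : r ≤ (r + 1) ^ 3 := (Nat.le_succ r).trans (Nat.le_self_pow (by norm_num) _)
        calc r * ((r + 1) ^ 3 + 1) = r * (r + 1) ^ 3 + r := by ring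
          _ ≤ r * (r + 1) ^ 3 + (r + 1) ^ 3 := Nat.add_le_add_left h1 _
          _ = _ := by ring
      calc (r + 1) ^ 3 * r * ((r + 1) ^ 3 + 1) = (r + 1) ^ 3 * (r * ((r + 1) ^ 3 + 1)) := by ring
        _ ≤ (r + 1) ^ 3 * (r + 1) ^ 4 := Nat.mul_le_mul_left _ this
        _ = _ := by ring
    refine IdxOK.of_card hout.le ht (b := 16 * f + 1) ?_ ?_
    · intro H hH
      have h1 := hb H hH
      have h2 := thirtytwo_mul_lt (f := f) (by omega)
      rw [hK] at h1
      omega
    · rw [Nat.add_sub_cancel]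
      have h1 : f ≤ 2 ^ f := Nat.lt_two_pow_self.le
      have h2 : (2 : ℕ) ^ f ≤ 4 ^ f := Nat.pow_le_pow_left (by norm_num) f
      have h3 : (3 : ℕ) ^ f ≤ 4 ^ f := Nat.pow_le_pow_left (by norm_num) f
      calc f * (3 ^ f) ^ 7 ≤ 4 ^ f * (4 ^ f) ^ 7 := Nat.mul_le_mul (h1.trans h2) (Nat.pow_le_pow_left h3 7)
        _ = 2 ^ (16 * f) := by
          rw [← pow_succ', ← pow_mul, show (4 : ℕ) = 2 ^ 2 by norm_num, ← pow_mul]
          congr 1
          ring

theorem tf4 {K : Type u} [Field K] [Fintype K] {m : ℕ} (hm : 1 ≤ m) (hK : Fintype.card K = 2 ^ (2 * m + 1))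
    (hs : IsSimpleGroup ↥(twistedF4 K (2 ^ m))) (hna : ¬ IsMulCommutative ↥(twistedF4 K (2 ^ m))) :
    IdxOK ↥(twistedF4 K (2 ^ m)) := by
  classical
  have : Finite (GL chevF4.Idx K) := inferInstance
  have hout := S2128.result hm hK
  have hcard := S1068.result hK
  have hb := H934.IdxTwF4.card_le_index hK hs
  have ht : Nat.card ↥(twistedF4 K (2 ^ m)) ≤ (2 ^ (2 * m + 1)) ^ 26 := by
    rw [hcard]
    set q := 2 ^ (2 * m + 1) with hq
    have hq1 : 1 ≤ q := Nat.one_le_two_pow
    have e1 : (q - 1) * (q ^ 3 + 1) ≤ q ^ 4 := by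
      obtain ⟨r, hr⟩ : ∃ r, q = r + 1 := ⟨q - 1, by omega⟩
      rw [hr]
      simp only [Nat.add_sub_cancel]
      have h1 : r ≤ (r + 1) ^ 3 := (Nat.le_succ r).trans (Nat.le_self_pow (by norm_num) _)
      calc r * ((r + 1) ^ 3 + 1) = r * (r + 1) ^ 3 + r := by ring
        _ ≤ r * (r + 1) ^ 3 + (r + 1) ^ 3 := Nat.add_le_add_left h1 _
        _ = _ := by ring
    have e2 : (q ^ 4 - 1) * (q ^ 6 + 1) ≤ q ^ 10 := by
      have hq4 : 1 ≤ q ^ 4 := Nat.one_le_pow _ _ hq1
      obtain ⟨r, hr⟩ : ∃ r, q ^ 4 = r + 1 := ⟨q ^ 4 - 1, by omega⟩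
      have h1 : r ≤ q ^ 6 := by
        have : q ^ 4 ≤ q ^ 6 := Nat.pow_le_pow_right hq1 (by norm_num)
        omega
      have h2 : q ^ 10 = (r + 1) * q ^ 6 := by rw [← hr]; ring
      rw [h2, hr, Nat.add_sub_cancel]
      calc r * (q ^ 6 + 1) = r * q ^ 6 + r := by ring
        _ ≤ r * q ^ 6 + q ^ 6 := Nat.add_le_add_left h1 _
        _ = _ := by ring
    calc q ^ 12 * (q - 1) * (q ^ 3 + 1) * (q ^ 4 - 1) * (q ^ 6 + 1)
        = q ^ 12 * ((q - 1) * (q ^ 3 + 1)) * ((q ^ 4 - 1) * (q ^ 6 + 1)) := by ring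
      _ ≤ q ^ 12 * q ^ 4 * q ^ 10 := Nat.mul_le_mul (Nat.mul_le_mul_left _ e1) e2
      _ = _ := by ring
  rcases Nat.lt_or_ge m 4 with h | h
  · have hd : ∀ p : ℕ, p ∣ (2 ^ (2 * m + 1)) ^ 6 + 1 → p ∣ Nat.card ↥(twistedF4 K (2 ^ m)) := fun p hp => by
      rw [hcard]; exact hp.mul_left _
    interval_cases m
    · exact of_two hout ht (prime_le_index hna (p := 109) (by norm_num) (hd _ (by norm_num))) (by norm_num)
    · exact of_two hout ht (prime_le_index hna (p := 1321) (by norm_num) (hd _ (by norm_num))) (by norm_num)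
    · exact of_two hout ht (prime_le_index hna (p := 1429) (by norm_num) (hd _ (by norm_num))) (by norm_num)
  · refine of_two (b := 2 ^ (2 * m + 1)) hout ht (fun H hH => hK ▸ hb H hH) ?_
    exact twentyseven_mul_lt (by omega)

end Cfsg.Agent.H599.IdxSR
end

-- part: H599/RowsA
section
/-!
# Rows of the table `IdxOK`: `E₆`, `E₇`, `E₈`, `F₄`, `Sz`, `²G₂`, `²F₄`
-/

set_option autoImplicit false

namespace Cfsg.Agent.H599.RowsA

open Cfsg Cfsg.Agent.H539

/-- Transport. -/
theorem of_equiv {T : Type} [Group T] [IsSimpleGroup T] (hT : ¬ IsMulCommutative T) {X : Type} [Group X]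
    (e : T ≃* X) (h : IsSimpleGroup X → ¬ IsMulCommutative X → IdxOK X) : IdxOK T := by
  refine (h e.symm.isSimpleGroup ?_).congr e.symm
  intro hc
  apply hT
  refine ⟨⟨fun a b => e.injective ?_⟩⟩
  rw [map_mul, map_mul]
  exact hc.is_comm.comm _ _

theorem f4 : RowOf (fun T _ => Lie.IsoF4 T) := by
  rintro T _ _ _ hT ⟨F, _, _, ⟨e⟩⟩
  exact of_equiv hT e fun h _ => IdxF4.f4 h

theorem e6 : RowOf (fun T _ => Lie.IsoChevE6 T) := by
  rintro T _ _ _ hT ⟨F, _, _, ⟨e⟩⟩
  exact of_equiv hT e fun h _ => IdxE.e6 h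

theorem e7 : RowOf (fun T _ => Lie.IsoE7 T) := by
  rintro T _ _ _ hT ⟨F, _, _, ⟨e⟩⟩
  exact of_equiv hT e fun h _ => IdxE.e7 h

theorem e8 : RowOf (fun T _ => Lie.IsoE8 T) := by
  rintro T _ _ _ hT ⟨F, _, _, ⟨e⟩⟩
  exact of_equiv hT e fun h _ => IdxE.e8 h

theorem suzuki : RowOf (fun T _ => Lie.IsoSuzuki T) := by
  rintro T _ _ _ hT ⟨F, _, _, m, hm, hF, ⟨e⟩⟩
  exact of_equiv hT e fun h h' => IdxSR.sz hm hF h h'

theorem ree : RowOf (fun T _ => Lie.IsoRee T) := by
  rintro T _ _ _ hT ⟨F, _, _, m, hm, hF, ⟨e⟩⟩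
  exact of_equiv hT e fun h h' => IdxSR.ree hm hF h h'

theorem twF4 : RowOf (fun T _ => Lie.Iso2F4 T) := by
  rintro T _ _ _ hT ⟨F, _, _, m, hm, hF, ⟨e⟩⟩
  exact of_equiv hT e fun h h' => IdxSR.tf4 hm hF h h'

end Cfsg.Agent.H599.RowsA
end
end

-- part: H599/IdxG2
section
prune_inst 0xc01028045000100000000010e00000200000000200400000004000020108800080008800000000121002000000040008111000300200000000000000000400001000000080080100000000000004000000000000000000000000000000000000000000000
set_option linter.all false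
open scoped Cfsg.Agent.FastGrp

-- part: H599/Spec
section
/-!
# Index bounds from special subgroups

`SD Γ V A`: elements `X v` (`v ∈ V`), `z a` (`a ∈ A`) of the group `Γ` with `[X v, X w] = z (om v w)`, `om` non-degenerate
in the strong sense `special`. If `Γ` maps to a simple group `T` and all `z a`, `a ≠ 0`, are conjugate, then proper
subgroups of `T` have index `n` with `n² ≥ |V| |A|²` (`SD.index_sq`).

`Sp`: the same in terms of root elements with coordinates in groups `V i` that may depend on `i`; `Sp.toSD`.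
-/

set_option autoImplicit false

namespace Cfsg.Agent.H599.Spec

open MulAction Cfsg.Agent.H934.Burn Cfsg.Agent.H934.Heis

/-- Coordinates for a special subgroup. -/
structure SD (Γ V A : Type*) [Group Γ] [AddCommGroup V] [AddCommGroup A] where
  X : V → Γ
  z : A → Γ
  om : V → V → A
  z_add : ∀ a b, z (a + b) = z a * z b
  z_inj : ∀ a, z a = 1 → a = 0
  X_add : ∀ v w, ∃ a, X (v + w) = X v * X w * z a
  X_z : ∀ v a, X v * z a = z a * X v
  comm : ∀ v w, X v * X w = X w * X v * z (om v w)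
  special : ∀ v, v ≠ 0 → ∀ a, ∃ w, om v w = a

namespace SD

variable {Γ V A : Type*} [Group Γ] [AddCommGroup V] [AddCommGroup A] (D : SD Γ V A)

theorem z_zero : D.z 0 = 1 := by
  have h := D.z_add 0 0
  rw [add_zero] at h
  exact mul_right_cancel (b := D.z 0) (by rw [← h, one_mul])

theorem z_neg (a : A) : D.z (-a) = (D.z a)⁻¹ := by
  rw [eq_inv_iff_mul_eq_one, ← D.z_add, neg_add_cancel, D.z_zero]

theorem uniq [Nontrivial A] (v : V) (a : A) (h : D.X v = D.z a) : v = 0 := by
  by_contra hv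
  obtain ⟨b, hb⟩ := exists_ne (0 : A)
  obtain ⟨w, hw⟩ := D.special v hv b
  have h1 := D.comm v w
  rw [h, D.X_z, hw] at h1
  exact hb (D.z_inj b (mul_left_cancel (a := D.z a * D.X w) (by rw [← h1, mul_one])))

theorem z_comm (a b : A) : D.z a * D.z b = D.z b * D.z a := by rw [← D.z_add, ← D.z_add, add_comm]

theorem exists_X_zero : ∃ a, D.X 0 = D.z a := by
  obtain ⟨a, ha⟩ := D.X_add 0 0
  refine ⟨-a, ?_⟩
  rw [add_zero] at ha
  rw [D.z_neg, eq_inv_iff_mul_eq_one]
  apply mul_left_cancel (a := D.X 0)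
  rw [← mul_assoc, ← ha, mul_one]

theorem exists_X_neg (v : V) : ∃ a, (D.X v)⁻¹ = D.X (-v) * D.z a := by
  obtain ⟨a, ha⟩ := D.X_add v (-v)
  obtain ⟨b, hb⟩ := D.exists_X_zero
  rw [add_neg_cancel, hb] at ha
  refine ⟨a - b, ?_⟩
  rw [inv_eq_iff_mul_eq_one, ← mul_assoc, sub_eq_add_neg, D.z_add, ← mul_assoc, ← ha, D.z_neg, mul_inv_cancel]

/-- The group of all `z a`. -/
def Zg : Subgroup Γ where
  carrier := Set.range D.z
  one_mem' := ⟨0, D.z_zero⟩
  mul_mem' := by
    rintro _ _ ⟨a, rfl⟩ ⟨b, rfl⟩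
    exact ⟨a + b, D.z_add a b⟩
  inv_mem' := by
    rintro _ ⟨a, rfl⟩
    exact ⟨-a, D.z_neg a⟩

/-- The group of all `X v * z a`. -/
def Qg : Subgroup Γ where
  carrier := {g | ∃ v a, g = D.X v * D.z a}
  one_mem' := by
    obtain ⟨a, ha⟩ := D.exists_X_zero
    exact ⟨0, -a, by rw [ha, D.z_neg, mul_inv_cancel]⟩
  mul_mem' := by
    rintro _ _ ⟨v, a, rfl⟩ ⟨w, b, rfl⟩
    obtain ⟨c, hc⟩ := D.X_add v w
    refine ⟨v + w, -c + (a + b), ?_⟩
    rw [hc, D.z_add, D.z_add, D.z_neg, mul_assoc (D.X v * D.X w), ← mul_assoc (D.z c), mul_inv_cancel, one_mul,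
      mul_assoc (D.X v) (D.z a), ← mul_assoc (D.z a), ← D.X_z, mul_assoc, mul_assoc]
  inv_mem' := by
    rintro _ ⟨v, a, rfl⟩
    obtain ⟨b, hb⟩ := D.exists_X_neg v
    refine ⟨-v, b - a, ?_⟩
    rw [mul_inv_rev, hb, ← D.z_neg, ← mul_assoc, ← D.X_z, mul_assoc, ← D.z_add]
    congr 2
    abel

theorem z_mem_Qg (a : A) : D.z a ∈ D.Qg := by
  obtain ⟨b, hb⟩ := D.exists_X_zero
  exact ⟨0, -b + a, by rw [hb, D.z_add, D.z_neg, mul_inv_cancel_left]⟩

theorem X_mem_Qg (v : V) : D.X v ∈ D.Qg := ⟨v, 0, by rw [D.z_zero, mul_one]⟩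

theorem eq_of_mul_eq [Nontrivial A] {v w : V} {a b : A} (h : D.X v * D.z a = D.X w * D.z b) : v = w ∧ a = b := by
  have h1 : v = w := by
    obtain ⟨c, hc⟩ := D.X_add (v - w) w
    rw [sub_add_cancel] at hc
    rw [← sub_eq_zero]
    have h2 : D.X (v - w) = D.z (-c + (-a + b)) := by
      have h3 : D.X (v - w) = D.X v * (D.z c)⁻¹ * (D.X w)⁻¹ := by
        rw [hc]
        group
      have h4 : D.X v = D.X w * D.z b * (D.z a)⁻¹ := by rw [← h]; group
      rw [h3, h4, ← D.z_neg, ← D.z_neg, mul_assoc (D.X w), ← D.z_add, mul_assoc (D.X w), ← D.z_add, D.X_z,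
        mul_inv_cancel_right]
      congr 1
      abel
    exact D.uniq _ _ h2
  subst h1
  refine ⟨rfl, ?_⟩
  have h2 := mul_left_cancel h
  have h3 : D.z (a - b) = 1 := by rw [sub_eq_add_neg, D.z_add, D.z_neg, h2, mul_inv_cancel]
  exact sub_eq_zero.1 (D.z_inj _ h3)

theorem card_Qg [Nontrivial A] : Nat.card D.Qg = Nat.card V * Nat.card A := by
  rw [← Nat.card_prod]
  symm
  refine Nat.card_congr (Equiv.ofBijective (fun p : V × A => (⟨D.X p.1 * D.z p.2, p.1, p.2, rfl⟩ : D.Qg)) ⟨?_, ?_⟩)
  · rintro ⟨v, a⟩ ⟨w, b⟩ h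
    obtain ⟨h1, h2⟩ := D.eq_of_mul_eq (congrArg Subtype.val h)
    exact Prod.ext h1 h2
  · rintro ⟨_, v, a, rfl⟩
    exact ⟨(v, a), rfl⟩

theorem card_Zg : Nat.card D.Zg = Nat.card A := by
  symm
  refine Nat.card_congr (Equiv.ofBijective (fun a : A => (⟨D.z a, a, rfl⟩ : D.Zg)) ⟨?_, ?_⟩)
  · intro a b h
    have h1 : D.z a = D.z b := congrArg Subtype.val h
    have h3 : D.z (a - b) = 1 := by rw [sub_eq_add_neg, D.z_add, D.z_neg, h1, mul_inv_cancel]
    exact sub_eq_zero.1 (D.z_inj _ h3)
  · rintro ⟨_, a, rfl⟩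
    exact ⟨a, rfl⟩

theorem Zg_le_Qg : D.Zg ≤ D.Qg := by
  rintro _ ⟨a, rfl⟩
  exact D.z_mem_Qg a

theorem central {g : Γ} (hg : g ∈ D.Qg) (a : A) : g * D.z a = D.z a * g := by
  obtain ⟨v, b, rfl⟩ := hg
  rw [mul_assoc, D.z_comm, ← mul_assoc, D.X_z, mul_assoc]

/-- `Z` as a subgroup of `Q`. -/
abbrev ZZ : Subgroup D.Qg := D.Zg.subgroupOf D.Qg

theorem card_ZZ : Nat.card D.ZZ = Nat.card A := by
  rw [Nat.card_congr (Subgroup.subgroupOfEquivOfLe D.Zg_le_Qg).toEquiv, card_Zg]

theorem comm_eq (v w : V) (a b : A) :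
    (D.X v * D.z a) * (D.X w * D.z b) * (D.X v * D.z a)⁻¹ * (D.X w * D.z b)⁻¹ = D.z (D.om v w) := by
  have h1 : (D.X v * D.z a) * (D.X w * D.z b) = D.X v * D.X w * (D.z a * D.z b) := by
    rw [mul_assoc, ← mul_assoc (D.z a), ← D.X_z, mul_assoc, mul_assoc]
  have h2 : (D.X w * D.z b) * (D.X v * D.z a) = D.X w * D.X v * (D.z a * D.z b) := by
    rw [mul_assoc, ← mul_assoc (D.z b), ← D.X_z, D.z_comm a b, mul_assoc, mul_assoc]
  rw [mul_assoc _ (D.X v * D.z a)⁻¹, ← mul_inv_rev, h1, h2, D.comm, mul_inv_eq_iff_eq_mul]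
  have h3 : D.X w * D.X v ∈ D.Qg := mul_mem (D.X_mem_Qg w) (D.X_mem_Qg v)
  rw [D.central h3, mul_assoc]

theorem hyp : Hyp D.ZZ (⊤ : Subgroup D.Qg) where
  le := le_top
  central := by
    rintro z ⟨a, ha⟩ g
    apply Subtype.ext
    show (g : Γ) * (z : Γ) = (z : Γ) * (g : Γ)
    have ha' : D.z a = (z : Γ) := ha
    rw [← ha']
    exact D.central g.2 a
  comm_mem := by
    rintro ⟨x, v, a, hx⟩ - ⟨y, w, b, hy⟩ -
    refine ⟨D.om v w, ?_⟩
    show D.z (D.om v w) = x * y * x⁻¹ * y⁻¹
    rw [hx, hy, D.comm_eq]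
  special := by
    rintro ⟨x, v, a, hx⟩ - hxZ z ⟨b, hz⟩
    have hz' : D.z b = (z : Γ) := hz
    have hv : v ≠ 0 := by
      rintro rfl
      apply hxZ
      obtain ⟨c, hc⟩ := D.exists_X_zero
      exact ⟨c + a, by rw [D.z_add, ← hc]; exact hx.symm⟩
    obtain ⟨w, hw⟩ := D.special v hv b
    refine ⟨⟨D.X w, D.X_mem_Qg w⟩, trivial, ?_⟩
    apply Subtype.ext
    show x * D.X w * x⁻¹ * (D.X w)⁻¹ = (z : Γ)
    have h1 := D.comm_eq v w a 0
    rw [D.z_zero, mul_one, hw] at h1
    rw [hx, h1, hz']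

/-- **Index bound.** -/
theorem index_sq [Finite Γ] {T : Type*} [Group T] [Finite T] [IsSimpleGroup T]
    (π : Γ →* T) {H : Subgroup T} (hH : H ≠ ⊤)
    (hconj : ∀ a b, a ≠ 0 → b ≠ 0 → IsConj (D.z a) (D.z b)) {a0 : A} (ha0 : π (D.z a0) ≠ 1) :
    Nat.card A * (Nat.card V * Nat.card A) ≤ H.index ^ 2 := by
  have ha1 : a0 ≠ 0 := by
    rintro rfl
    exact ha0 (by rw [D.z_zero, map_one])
  have : Nontrivial A := ⟨a0, 0, ha1⟩
  have hc : ∀ a, a ≠ 0 → fx (Cos π H) (D.z a) = fx (Cos π H) (D.z a0) := fun a ha =>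
    fx_of_isConj (hconj a a0 ha ha1)
  have hlt : fx (Cos π H) (D.z a0) < H.index := by
    rw [← card_cos π H]
    exact fx_lt (exists_moved π hH ha0)
  have hz1 : D.z a0 ≠ 1 := fun h => ha0 (by rw [h, map_one])
  obtain ⟨lam, hl⟩ := D.hyp.exists_char (t := ⟨D.z a0, D.z_mem_Qg a0⟩) ⟨a0, rfl⟩
    fun h => hz1 (congrArg Subtype.val h)
  have h1 := sq_le (Ω := Cos (π.comp D.Qg.subtype) H) D.hyp hl (fx (Cos π H) (D.z a0)) (fun z hz hz1 => by
      obtain ⟨a, ha⟩ := hz
      have ha' : D.z a = (z : Γ) := ha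
      have ha2 : a ≠ 0 := by
        rintro rfl
        exact hz1 (Subtype.ext (by rw [← ha', D.z_zero]; rfl))
      rw [← hc a ha2, ha']
      rfl) hlt
  rw [Subgroup.card_top, card_Qg, card_ZZ] at h1
  exact h1.trans (Nat.pow_le_pow_left (Nat.sub_le _ _) 2)

end SD

/-- Root elements of a special group; the coordinates lie in groups that may depend on the root. -/
structure Sp (Γ : Type*) [Group Γ] {ι : Type*} [Fintype ι] [DecidableEq ι] (V : ι → Type*)
    [∀ i, AddCommGroup (V i)] (A : Type*) [AddCommGroup A] where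
  x : ∀ i, V i → Γ
  z : A → Γ
  x_add : ∀ i s t, x i (s + t) = x i s * x i t
  z_add : ∀ s t, z (s + t) = z s * z t
  z_inj : ∀ a, z a = 1 → a = 0
  x_z : ∀ i t a, x i t * z a = z a * x i t
  b : ∀ i j, V i → V j → A
  b_add_left : ∀ i j s s' t, b i j (s + s') t = b i j s t + b i j s' t
  b_add_right : ∀ i j s t t', b i j s (t + t') = b i j s t + b i j s t'
  x_comm : ∀ i j s t, x i s * x j t = x j t * x i s * z (b i j s t)
  opp : ι → ι
  b_opp : ∀ i s, s ≠ 0 → ∀ a, ∃ t, b i (opp i) s t = a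
  b_zero : ∀ i k, k ≠ i → ∀ s t, b k (opp i) s t = 0

namespace Sp

variable {Γ ι : Type*} [Group Γ] [Fintype ι] [DecidableEq ι] {V : ι → Type*} [∀ i, AddCommGroup (V i)]
  {A : Type*} [AddCommGroup A] (R : Sp Γ V A)

theorem x_zero (i : ι) : R.x i 0 = 1 := by
  have h := R.x_add i 0 0
  rw [add_zero] at h
  exact mul_right_cancel (b := R.x i 0) (by rw [← h, one_mul])

theorem z_zero : R.z 0 = 1 := by
  have h := R.z_add 0 0
  rw [add_zero] at h
  exact mul_right_cancel (b := R.z 0) (by rw [← h, one_mul])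

theorem b_zero_left (i j : ι) (t : V j) : R.b i j 0 t = 0 := by
  have h := R.b_add_left i j 0 0 t
  rw [add_zero] at h
  exact left_eq_add.1 h

theorem b_zero_right (i j : ι) (s : V i) : R.b i j s 0 = 0 := by
  have h := R.b_add_right i j s 0 0
  rw [add_zero] at h
  exact left_eq_add.1 h

/-- Product over a list. -/
def P (l : List ι) (v : ∀ i, V i) : Γ := (l.map fun i => R.x i (v i)).prod

theorem P_nil (v : ∀ i, V i) : R.P [] v = 1 := rfl

theorem P_cons (i : ι) (l : List ι) (v : ∀ i, V i) : R.P (i :: l) v = R.x i (v i) * R.P l v := by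
  simp [P]

theorem P_z (l : List ι) (v : ∀ i, V i) (a : A) : R.P l v * R.z a = R.z a * R.P l v := by
  induction l with
  | nil => simp [P_nil]
  | cons i l ih => rw [P_cons, mul_assoc, ih, ← mul_assoc, R.x_z, mul_assoc]

theorem x_P_comm (i : ι) (t : V i) (l : List ι) (v : ∀ i, V i) :
    ∃ a, R.x i t * R.P l v = R.P l v * R.x i t * R.z a := by
  induction l with
  | nil => exact ⟨0, by rw [P_nil, R.z_zero, mul_one, one_mul, mul_one]⟩
  | cons j l ih =>
    obtain ⟨a, ha⟩ := ih
    refine ⟨R.b i j t (v j) + a, ?_⟩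
    rw [P_cons, ← mul_assoc, R.x_comm i j t (v j), mul_assoc (R.x j (v j) * R.x i t), ← R.P_z, ← mul_assoc,
      mul_assoc (R.x j (v j)), ha, R.z_add, ← mul_assoc, ← mul_assoc, mul_assoc _ (R.z a), ← R.z_add, add_comm a,
      R.z_add, ← mul_assoc]

theorem P_add (l : List ι) (v w : ∀ i, V i) : ∃ a, R.P l (v + w) = R.P l v * R.P l w * R.z a := by
  induction l with
  | nil => exact ⟨0, by rw [P_nil, P_nil, P_nil, R.z_zero, one_mul, one_mul]⟩
  | cons i l ih =>
    obtain ⟨a, ha⟩ := ih
    obtain ⟨b, hb⟩ := R.x_P_comm i (w i) l v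
    refine ⟨b + a, ?_⟩
    have h1 : R.x i (w i) * R.P l v * (R.P l w * R.z a) = R.P l v * (R.x i (w i) * R.P l w) * R.z (b + a) := by
      rw [hb, R.z_add, mul_assoc (R.P l v * R.x i (w i)), ← mul_assoc (R.z b), ← R.P_z l w b]
      simp only [mul_assoc]
    rw [P_cons, P_cons, P_cons, Pi.add_apply, R.x_add, ha]
    calc R.x i (v i) * R.x i (w i) * (R.P l v * R.P l w * R.z a)
        = R.x i (v i) * (R.x i (w i) * R.P l v * (R.P l w * R.z a)) := by simp only [mul_assoc]
      _ = _ := by rw [h1]; simp only [mul_assoc]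

theorem P_single_not_mem {i : ι} {l : List ι} (h : i ∉ l) (t : V i) : R.P l (Pi.single i t) = 1 := by
  induction l with
  | nil => rfl
  | cons j l ih =>
    rw [List.mem_cons, not_or] at h
    rw [P_cons, Pi.single_eq_of_ne (Ne.symm h.1), R.x_zero, one_mul, ih h.2]

theorem P_single {i : ι} {l : List ι} (hl : l.Nodup) (h : i ∈ l) (t : V i) : R.P l (Pi.single i t) = R.x i t := by
  induction l with
  | nil => simp at h
  | cons j l ih =>
    rw [List.nodup_cons] at hl
    rw [P_cons]
    rcases eq_or_ne i j with rfl | hij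
    · rw [Pi.single_eq_same, R.P_single_not_mem hl.1, mul_one]
    · rw [Pi.single_eq_of_ne (Ne.symm hij), R.x_zero, one_mul]
      exact ih hl.2 (List.mem_of_ne_of_mem hij h)

/-- The element of the special group with given coordinates. -/
noncomputable def X (v : ∀ i, V i) : Γ := R.P (Finset.univ : Finset ι).toList v

theorem X_add (v w : ∀ i, V i) : ∃ a, R.X (v + w) = R.X v * R.X w * R.z a := R.P_add _ v w

theorem X_z (v : ∀ i, V i) (a : A) : R.X v * R.z a = R.z a * R.X v := R.P_z _ v a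

theorem X_single (i : ι) (t : V i) : R.X (Pi.single i t) = R.x i t :=
  R.P_single (Finset.nodup_toList _) (Finset.mem_toList.2 (Finset.mem_univ i)) t

theorem X_zero : R.X 0 = 1 := by
  unfold X
  generalize (Finset.univ : Finset ι).toList = l
  induction l with
  | nil => rfl
  | cons i l ih => rw [P_cons, ih, Pi.zero_apply, R.x_zero, one_mul]

/-- Additive properties hold everywhere as soon as they hold for the vectors with one non-zero coordinate. -/
theorem pi_induction {p : (∀ i, V i) → Prop} (h0 : p 0) (hadd : ∀ v w, p v → p w → p (v + w))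
    (hs : ∀ i t, p (Pi.single i t)) (v : ∀ i, V i) : p v := by
  rw [← Finset.univ_sum_single v]
  exact Finset.sum_induction _ p hadd h0 fun i _ => hs i (v i)

/-- The commutator form. -/
def om (v w : ∀ i, V i) : A := ∑ i, ∑ j, R.b i j (v i) (w j)

theorem om_add_left (v v' w : ∀ i, V i) : R.om (v + v') w = R.om v w + R.om v' w := by
  unfold om
  rw [← Finset.sum_add_distrib]
  refine Finset.sum_congr rfl fun i _ => ?_
  rw [← Finset.sum_add_distrib]
  refine Finset.sum_congr rfl fun j _ => ?_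
  rw [Pi.add_apply, R.b_add_left]

theorem om_add_right (v w w' : ∀ i, V i) : R.om v (w + w') = R.om v w + R.om v w' := by
  unfold om
  rw [← Finset.sum_add_distrib]
  refine Finset.sum_congr rfl fun i _ => ?_
  rw [← Finset.sum_add_distrib]
  refine Finset.sum_congr rfl fun j _ => ?_
  rw [Pi.add_apply, R.b_add_right]

theorem om_zero_left (w : ∀ i, V i) : R.om 0 w = 0 := by
  unfold om
  exact Finset.sum_eq_zero fun i _ => Finset.sum_eq_zero fun j _ => R.b_zero_left i j _

theorem om_zero_right (v : ∀ i, V i) : R.om v 0 = 0 := by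
  unfold om
  exact Finset.sum_eq_zero fun i _ => Finset.sum_eq_zero fun j _ => R.b_zero_right i j _

theorem om_single_right (v : ∀ i, V i) (j : ι) (t : V j) : R.om v (Pi.single j t) = ∑ i, R.b i j (v i) t := by
  unfold om
  refine Finset.sum_congr rfl fun i _ => ?_
  rw [Finset.sum_eq_single j (fun k _ hk => by rw [Pi.single_eq_of_ne hk, R.b_zero_right])
    (fun h => absurd (Finset.mem_univ j) h), Pi.single_eq_same]

theorem om_single (i j : ι) (s : V i) (t : V j) : R.om (Pi.single i s) (Pi.single j t) = R.b i j s t := by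
  rw [om_single_right, Finset.sum_eq_single i (fun k _ hk => by rw [Pi.single_eq_of_ne hk, R.b_zero_left])
    (fun h => absurd (Finset.mem_univ i) h), Pi.single_eq_same]

theorem comm (v w : ∀ i, V i) : R.X v * R.X w = R.X w * R.X v * R.z (R.om v w) := by
  have hz : ∀ a b, R.z a * R.z b = R.z b * R.z a := fun a b => by rw [← R.z_add, ← R.z_add, add_comm]
  revert w
  refine pi_induction (p := fun v => ∀ w, R.X v * R.X w = R.X w * R.X v * R.z (R.om v w)) ?_ ?_ ?_ v
  · intro w
    rw [X_zero, om_zero_left, R.z_zero, one_mul, mul_one, mul_one]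
  · intro v v' hv hv' w
    obtain ⟨a, ha⟩ := R.X_add v v'
    have h1 := hv w
    have h2 := hv' w
    rw [om_add_left, ha, R.z_add]
    calc R.X v * R.X v' * R.z a * R.X w = R.X v * R.X v' * (R.z a * R.X w) := by simp only [mul_assoc]
      _ = R.X v * (R.X v' * R.X w) * R.z a := by rw [← R.X_z]; simp only [mul_assoc]
      _ = (R.X v * R.X w) * R.X v' * R.z (R.om v' w) * R.z a := by rw [h2]; simp only [mul_assoc]
      _ = R.X w * R.X v * (R.z (R.om v w) * R.X v') * R.z (R.om v' w) * R.z a := by rw [h1]; simp only [mul_assoc]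
      _ = R.X w * (R.X v * R.X v') * (R.z (R.om v w) * R.z (R.om v' w)) * R.z a := by
        rw [← R.X_z]; simp only [mul_assoc]
      _ = R.X w * (R.X v * R.X v') * (R.z a * (R.z (R.om v w) * R.z (R.om v' w))) := by
        rw [← R.z_add (R.om v w), mul_assoc, hz]
      _ = _ := by simp only [mul_assoc]
  · intro i s w
    refine pi_induction (p := fun w => R.X (Pi.single i s) * R.X w = R.X w * R.X (Pi.single i s) *
      R.z (R.om (Pi.single i s) w)) ?_ ?_ ?_ w
    · rw [X_zero, om_zero_right, R.z_zero, one_mul, mul_one]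
    · intro w w' h1 h2
      obtain ⟨a, ha⟩ := R.X_add w w'
      rw [om_add_right, ha, R.z_add]
      set x := R.X (Pi.single i s) with hx
      calc x * (R.X w * R.X w' * R.z a) = (x * R.X w) * R.X w' * R.z a := by simp only [mul_assoc]
        _ = R.X w * x * (R.z (R.om (Pi.single i s) w) * R.X w') * R.z a := by rw [h1]; simp only [mul_assoc]
        _ = R.X w * (x * R.X w') * R.z (R.om (Pi.single i s) w) * R.z a := by
          rw [← R.X_z]; simp only [mul_assoc]
        _ = R.X w * R.X w' * x * R.z (R.om (Pi.single i s) w') * R.z (R.om (Pi.single i s) w) * R.z a := by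
          rw [h2]; simp only [mul_assoc]
        _ = R.X w * R.X w' * (x * R.z a) * (R.z (R.om (Pi.single i s) w) * R.z (R.om (Pi.single i s) w')) := by
          have h3 : R.z (R.om (Pi.single i s) w') * (R.z (R.om (Pi.single i s) w) * R.z a) =
              R.z a * (R.z (R.om (Pi.single i s) w) * R.z (R.om (Pi.single i s) w')) := by
            rw [← R.z_add, ← R.z_add, ← R.z_add, ← R.z_add]
            congr 1
            abel
          simp only [mul_assoc]
          rw [h3]
        _ = _ := by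
          rw [hx, R.X_z]; simp only [mul_assoc]
    · intro j t
      rw [X_single, X_single, om_single]
      exact R.x_comm i j s t

theorem special {v : ∀ i, V i} (hv : v ≠ 0) (a : A) : ∃ w, R.om v w = a := by
  obtain ⟨i, hi⟩ := Function.ne_iff.1 hv
  have hi' : v i ≠ 0 := hi
  obtain ⟨t, ht⟩ := R.b_opp i (v i) hi' a
  refine ⟨Pi.single (R.opp i) t, ?_⟩
  rw [om_single_right, Finset.sum_eq_single i (fun k _ hk => R.b_zero i k hk _ _)
    (fun h => absurd (Finset.mem_univ i) h), ht]

/-- The coordinates. -/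
noncomputable def toSD : SD Γ (∀ i, V i) A where
  X := R.X
  z := R.z
  om := R.om
  z_add := R.z_add
  z_inj := R.z_inj
  X_add := R.X_add
  X_z := R.X_z
  comm := R.comm
  special := fun _ hv a => R.special hv a

/-- **Index bound.** -/
theorem index_sq [Finite Γ] {T : Type*} [Group T] [Finite T] [IsSimpleGroup T]
    (π : Γ →* T) {H : Subgroup T} (hH : H ≠ ⊤)
    (hconj : ∀ a b, a ≠ 0 → b ≠ 0 → IsConj (R.z a) (R.z b)) {a0 : A} (ha0 : π (R.z a0) ≠ 1) :
    Nat.card A * ((∏ i, Nat.card (V i)) * Nat.card A) ≤ H.index ^ 2 := by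
  rw [← Nat.card_pi]
  exact R.toSD.index_sq π hH hconj ha0

end Sp

end Cfsg.Agent.H599.Spec
end

-- part: H599/IdxG2
section
/-!
# The special group of the highest root of `G₂(q)`

`STab`: a table of roots `r` with `(r, θ) = 1`, the commutators may have coefficients different from `± 1`.
Proper subgroups of `G₂(q)` have index at least `q²`, and at least `q³` if `3 ∤ q`. `IdxOK` for `G₂(q)`.
-/

set_option autoImplicit false

namespace Cfsg.Agent.H599.IdxG2

open Cfsg.Lie Cfsg.Agent.ChevalleyStructure.Elts Cfsg.Agent.H934.HeisChev Cfsg.Agent.H599.Spec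
  Cfsg.Agent.H539 Cfsg.Agent.H599.IdxE Cfsg.Agent.H599.IdxJor

universe u

/-- Tables. -/
structure STab (n : ℕ) where
  S : Fin n → ℕ
  th : ℕ
  opp : Fin n → Fin n
  e : Fin n → ℤ
  p : ℕ

variable {n : ℕ}

/-- Correctness of the tables. -/
structure STab.Ok (T : STab n) (D : ChevalleyDatum) : Prop where
  S_lt : ∀ i, T.S i < D.nroots
  th_lt : T.th < D.nroots
  th_ne : ∀ i, T.th ≠ T.S i ∧ T.th ≠ D.neg (T.S i) ∧ D.commTerms (T.S i) T.th = []
  S_ne : ∀ i j, i ≠ j → T.S i ≠ T.S j ∧ T.S i ≠ D.neg (T.S j) ∧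
    D.commTerms (T.S j) (T.S i) = if j = T.opp i then [(T.th, T.e i, 1, 1)] else []
  opp_ne : ∀ i, T.opp i ≠ i
  opp_opp : ∀ i, T.opp (T.opp i) = i
  p_lt : T.p < D.rank
  p_th : D.cartan T.p T.th = 1

variable {D : ChevalleyDatum} (hD : InList D) {F : Type u} [Field F]

/-- The root elements. -/
noncomputable def STab.sp (T : STab n) (ok : T.Ok D) (F : Type u) [Field F] (he : ∀ i, (T.e i : F) ≠ 0) :
    Sp ↥(D.group F) (fun _ : Fin n => F) F where
  x := fun i => xe hD (T.S i)
  z := xe hD T.th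
  x_add := fun i s t => xe_add hD _ s t
  z_add := fun s t => xe_add hD _ s t
  z_inj := fun a h => xe_eq_one hD ok.th_lt h
  x_z := fun i t a => (comm_nil hD (ok.S_lt i) ok.th_lt (ok.th_ne i).1 (ok.th_ne i).2.1 (ok.th_ne i).2.2 t a).symm
  b := fun i j s t => (if j = T.opp i then -(T.e i : F) else 0) * s * t
  b_add_left := fun i j s s' t => by ring
  b_add_right := fun i j s t t' => by ring
  x_comm := by
    intro i j s t
    rcases eq_or_ne i j with rfl | hij
    · rw [if_neg (ok.opp_ne i).symm, zero_mul, zero_mul, xe_zero, mul_one, ← xe_add, ← xe_add, add_comm]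
    · obtain ⟨h1, h2, h3⟩ := ok.S_ne i j hij
      split_ifs with h
      · rw [if_pos h] at h3
        rw [comm_single hD (ok.S_lt j) (ok.S_lt i) h1 h2 h3 t s]
        congr 2
        ring
      · rw [if_neg h] at h3
        rw [comm_nil hD (ok.S_lt j) (ok.S_lt i) h1 h2 h3 t s, zero_mul, zero_mul, xe_zero, mul_one]
  opp := T.opp
  b_opp := fun i s hs a => by
    refine ⟨a / (-(T.e i : F) * s), ?_⟩
    rw [if_pos rfl]
    exact mul_div_cancel₀ a (mul_ne_zero (neg_ne_zero.2 (he i)) hs)
  b_zero := fun i k hk s t => by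
    rw [if_neg, zero_mul, zero_mul]
    intro h
    apply hk
    rw [← ok.opp_opp k, ← h, ok.opp_opp]

include hD in
theorem isConj_th (T : STab n) (ok : T.Ok D) (a b : F) (ha : a ≠ 0) (hb : b ≠ 0) :
    IsConj (xe hD T.th a) (xe hD T.th b) := by
  have h1 := Cfsg.Agent.S1032.result (F := F) D hD T.p T.th ok.p_lt ok.th_lt (b / a) (div_ne_zero hb ha) a
  rw [ok.p_th, zpow_one, div_mul_cancel₀ _ ha] at h1
  rw [isConj_iff]
  refine ⟨⟨hG hD (D.simple T.p) (b / a), hG_mem_group hD _ _⟩, ?_⟩
  rw [mul_inv_eq_iff_eq_mul]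
  apply Subtype.ext
  apply Units.ext
  show (hG hD (D.simple T.p) (b / a) * xG hD T.th a : GL D.Idx F).val =
    (xG hD T.th b * hG hD (D.simple T.p) (b / a) : GL D.Idx F).val
  rw [Units.val_mul, Units.val_mul, coe_hG]
  exact h1

include hD in
/-- **The bound.** -/
theorem bound [Fintype F] (T : STab n) (ok : T.Ok D) (he : ∀ i, (T.e i : F) ≠ 0) {X : Type*} [Group X] [Finite X]
    [IsSimpleGroup X] (π : ↥(D.group F) →* X) (hπ : Function.Injective π) {H : Subgroup X} (hH : H ≠ ⊤) :
    Fintype.card F ^ (n + 2) ≤ H.index ^ 2 := by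
  have : Finite (GL D.Idx F) := inferInstance
  have h := (T.sp hD ok F he).index_sq π hH (a0 := 1) (fun a b ha hb => isConj_th hD T ok a b ha hb)
    (fun h => by
      have h1 : xe hD T.th (1 : F) = 1 := hπ (by rw [map_one]; exact h)
      exact one_ne_zero (xe_eq_one hD ok.th_lt h1))
  refine le_trans (le_of_eq ?_) h
  rw [Finset.prod_const, Finset.card_univ, Fintype.card_fin, Nat.card_eq_fintype_card]
  ring

/-! ### `G₂` -/

/-- long roots -/
def tabL : STab 2 where
  S := ![6, 10]
  th := 11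
  opp := ![1, 0]
  e := ![-1, 1]
  p := 1

/-- all roots -/
def tabA : STab 4 where
  S := ![6, 8, 9, 10]
  th := 11
  opp := ![3, 2, 1, 0]
  e := ![-1, -3, 3, 1]
  p := 1

theorem tabL_ok : tabL.Ok chevG2 where
  S_lt := by decide +kernel
  th_lt := by decide +kernel
  th_ne := by decide +kernel
  S_ne := by decide +kernel
  opp_ne := by decide +kernel
  opp_opp := by decide +kernel
  p_lt := by decide +kernel
  p_th := by decide +kernel

theorem tabA_ok : tabA.Ok chevG2 where
  S_lt := by decide +kernel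
  th_lt := by decide +kernel
  th_ne := by decide +kernel
  S_ne := by decide +kernel
  opp_ne := by decide +kernel
  opp_opp := by decide +kernel
  p_lt := by decide +kernel
  p_th := by decide +kernel

theorem hDG : InList chevG2 := by simp [InList]

variable [Fintype F]

theorem sq_le (hs : IsSimpleGroup ↥(chevG2.group F)) (H : Subgroup ↥(chevG2.group F)) (hH : H ≠ ⊤) :
    Fintype.card F ^ 2 ≤ H.index := by
  have : Finite (GL chevG2.Idx F) := inferInstance
  have h := bound (F := F) hDG tabL tabL_ok (fun i => by fin_cases i <;> simp [tabL])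
    (MonoidHom.id ↥(chevG2.group F)) Function.injective_id hH
  rw [show Fintype.card F ^ (2 + 2) = (Fintype.card F ^ 2) ^ 2 by ring] at h
  exact (Nat.pow_le_pow_iff_left (by norm_num)).1 h

theorem cube_le (h3 : (3 : F) ≠ 0) (hs : IsSimpleGroup ↥(chevG2.group F)) (H : Subgroup ↥(chevG2.group F))
    (hH : H ≠ ⊤) : Fintype.card F ^ 3 ≤ H.index := by
  have : Finite (GL chevG2.Idx F) := inferInstance
  have h := bound (F := F) hDG tabA tabA_ok (fun i => by fin_cases i <;> simp [tabA, h3])
    (MonoidHom.id ↥(chevG2.group F)) Function.injective_id hH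
  rw [show Fintype.card F ^ (4 + 2) = (Fintype.card F ^ 3) ^ 2 by ring] at h
  exact (Nat.pow_le_pow_iff_left (by norm_num)).1 h

theorem card_le : Nat.card ↥(chevG2.group F) ≤ Fintype.card F ^ 14 := by
  calc Nat.card ↥(chevG2.group F) = _ := S1059.result (F := F) rfl
    _ ≤ Fintype.card F ^ 6 * Fintype.card F ^ 2 * Fintype.card F ^ 6 := by gcongr <;> exact Nat.sub_le _ _
    _ = Fintype.card F ^ 14 := by ring

theorem g2 (h3 : 3 ≤ Fintype.card F) (hs : IsSimpleGroup ↥(chevG2.group F))
    (hna : ¬ IsMulCommutative ↥(chevG2.group F)) : IdxOK ↥(chevG2.group F) := by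
  have : Finite (GL chevG2.Idx F) := inferInstance
  obtain ⟨p, f, hp, hc, hf, hF⟩ := exists_char F
  have : Fact p.Prime := ⟨hp⟩
  have hout := S2121.result p f hF (by rw [← hF]; exact h3)
  have ht := card_le (F := F)
  by_cases hp3 : p = 3
  · subst hp3
    rw [if_pos rfl] at hout
    rcases Nat.lt_or_ge f 3 with hf3 | hf3
    · rcases (show f = 1 ∨ f = 2 by omega) with rfl | rfl
      · -- `G₂(3)`
        have hcard : Nat.card ↥(chevG2.group F) = 4245696 := (S1059.result (F := F) hF).trans (by norm_num)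
        exact IdxOK.of_bound hna hout.le hcard.le (b := 26) (by norm_num)
          (le_index_of_check hna hcard (P := [13]) (by norm_num) t2) (by norm_num)
      · -- `G₂(9)`
        rw [hF] at ht
        refine IdxOK.of_card hout.le ht (b := 81) (fun K hK => ?_) (by norm_num)
        have := sq_le hs K hK
        rw [hF] at this
        exact le_trans (by norm_num) this
    · refine of_pow (q := Fintype.card F) (N := 16) (b := Fintype.card F ^ 2) (by omega) ?_ (sq_le hs) ?_
      · have h2 : 2 * f ≤ Fintype.card F ^ 2 := by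
          have h4 : f ≤ Fintype.card F := hF ▸ le_pow hp
          nlinarith
        calc _ ≤ Fintype.card F ^ 2 * Fintype.card F ^ 14 := Nat.mul_le_mul (hout.le.trans h2) ht
          _ = _ := by ring
      · have h4 : 27 ≤ Fintype.card F := by
          rw [hF]
          calc 27 = 3 ^ 3 := by norm_num
            _ ≤ 3 ^ f := Nat.pow_le_pow_right (by norm_num) hf3
        have h5 : 27 * Fintype.card F ≤ Fintype.card F ^ 2 := by rw [sq]; exact Nat.mul_le_mul_right _ h4
        omega
  · rw [if_neg hp3] at hout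
    have h30 : (3 : F) ≠ 0 := by
      intro h0
      have h1 : ((3 : ℕ) : F) = 0 := by exact_mod_cast h0
      rw [CharP.cast_eq_zero_iff F p] at h1
      exact hp3 ((Nat.prime_dvd_prime_iff_eq hp Nat.prime_three).1 h1)
    have h4 : 4 ≤ Fintype.card F := by
      by_contra h4
      have h5 : Fintype.card F = 3 := by omega
      rw [hF] at h5
      have h6 : p ∣ 3 := by rw [← h5]; exact dvd_pow_self p (by omega)
      exact hp3 ((Nat.prime_dvd_prime_iff_eq hp Nat.prime_three).1 h6)
    refine of_pow (q := Fintype.card F) (N := 15) (b := Fintype.card F ^ 3) (by omega) ?_ (cube_le h30 hs) ?_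
    · have h5 : f ≤ Fintype.card F := hF ▸ le_pow hp
      calc _ ≤ Fintype.card F * Fintype.card F ^ 14 := Nat.mul_le_mul (hout.le.trans h5) ht
        _ = _ := by ring
    · have h5 : 16 * Fintype.card F ≤ Fintype.card F ^ 3 := by
        rw [pow_succ]
        exact Nat.mul_le_mul_right _ (Nat.pow_le_pow_left h4 2)
      omega

theorem row : RowOf (fun T _ => Cfsg.Lie.IsoChevG2 T) := by
  rintro T _ _ _ hT ⟨F, _, _, h3, ⟨e⟩⟩
  exact RowsA.of_equiv hT e fun h h' => g2 h3 h h'

end Cfsg.Agent.H599.IdxG2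
end

private theorem dce_a406babad63d : _root_.True := by
  try have : _root_.True := by simp only [_root_.Cfsg.Agent.H599.IdxG2.tabL.eq_1]
  try have : _root_.True := by simp only [_root_.Cfsg.Agent.H599.Spec.Sp.P.eq_1]
  try have : _root_.True := by simp only [_root_.Cfsg.Agent.H599.IdxG2.tabA.eq_1]
  exact _root_.True.intro
end
end
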